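import Mathlib
import Cfsg.Agent.H553.OddHall_m3
import Cfsg.Agent.H630.Cross
import Cfsg.Agent.Lib.NilpotentCoprime
import Cfsg.Agent.S0581
import Cfsg.Agent.H532.CopAct
import Cfsg.Agent.Lib.SolvableMinNormal
import Cfsg.Agent.H988.CopCyc.Red
import Cfsg.Agent.PLocal.Constrained
import Cfsg.Agent.PLocal.PSolvable
import Cfsg.Agent.Lib.Cores
import Cfsg.Agent.FastGrp
import Cfsg.Agent.Prune
set_option linter.all false
prune_inst 0x7ffcfefbaffcbddfffff7ffffff5dffe3bd4dfffffffff4bfffdffffffff23ff3fe5fbbf1df4d8ffdff7e3beb0b87853f9ffceffef6bdc7ffffd5ff45ffbee1ff7ffbfad71dfbcb40ffe6ffffbf37fffffffffffffffffffffffffffffffffffffffffffffff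
open scoped Cfsg.Agent.FastGrp

-- part: H165/NHall
section
/-!
# Nilpotent Hall subgroups of subgroups (for P. Hall's theorem D5)

`NHall π B A` : `B` is a nilpotent Hall `π`-subgroup of the subgroup `A`.
`Nz V B` : `V` normalizes `B`.
-/

set_option autoImplicit false
open Cfsg
open scoped Pointwise

namespace Cfsg.Agent.H165.NilHall

open Cfsg.Agent.H988.CPi

universe u

variable {X : Type u} [Group X]

/-- `V` normalizes `B`. -/
def Nz (V B : Subgroup X) : Prop := ∀ v ∈ V, ∀ x ∈ B, v * x * v⁻¹ ∈ B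

theorem mem_cj {g x : X} {B : Subgroup X} : x ∈ MulAut.conj g • B ↔ g⁻¹ * x * g ∈ B := by
  rw [Subgroup.mem_pointwise_smul_iff_inv_smul_mem]
  have h : (MulAut.conj g)⁻¹ • x = g⁻¹ * x * g := by
    rw [← map_inv]
    show MulAut.conj g⁻¹ x = _
    simp only [MulAut.conj_apply, _root_.map_inv, _root_.MulAut.inv_apply, _root_.MulAut.conj_symm_apply]
  rw [h]

theorem cj_mem {g x : X} {B : Subgroup X} (h : x ∈ B) : g * x * g⁻¹ ∈ MulAut.conj g • B := by
  rw [mem_cj]
  have : g⁻¹ * (g * x * g⁻¹) * g = x := by group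
  rwa [this]

theorem cj_mul (a b : X) (B : Subgroup X) : MulAut.conj a • (MulAut.conj b • B) = MulAut.conj (a * b) • B := by
  rw [map_mul, mul_smul]

theorem cj_one (B : Subgroup X) : MulAut.conj (1 : X) • B = B := by rw [map_one, one_smul]

theorem cj_inv_eq {a : X} {B C : Subgroup X} (h : C = MulAut.conj a • B) : B = MulAut.conj a⁻¹ • C := by
  rw [h, cj_mul, inv_mul_cancel, cj_one]

theorem Nz.smul_eq {V B : Subgroup X} (h : Nz V B) {v : X} (hv : v ∈ V) : MulAut.conj v • B = B := by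
  ext x
  rw [mem_cj]
  constructor
  · intro hx
    have := h v hv _ hx
    have h2 : v * (v⁻¹ * x * v) * v⁻¹ = x := by group
    rwa [h2] at this
  · intro hx
    have := h v⁻¹ (V.inv_mem hv) x hx
    rwa [inv_inv] at this

theorem nz_of_smul_eq {V B : Subgroup X} (h : ∀ v ∈ V, MulAut.conj v • B = B) : Nz V B := by
  intro v hv x hx
  rw [← h v hv]
  exact cj_mem hx

theorem Nz.le_normalizer {V B : Subgroup X} (h : Nz V B) : V ≤ Subgroup.normalizer (B : Set X) := by
  intro v hv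
  rw [Subgroup.mem_normalizer_iff]
  intro x
  constructor
  · exact h v hv x
  · intro hx
    have := h v⁻¹ (V.inv_mem hv) _ hx
    have h2 : v⁻¹ * (v * x * v⁻¹) * v⁻¹⁻¹ = x := by group
    rwa [h2] at this

theorem nz_of_le_normalizer {V B : Subgroup X} (h : V ≤ Subgroup.normalizer (B : Set X)) : Nz V B :=
  fun v hv x hx => (Subgroup.mem_normalizer_iff.mp (h hv) x).mp hx

theorem nz_iff {V B : Subgroup X} : Nz V B ↔ V ≤ Subgroup.normalizer (B : Set X) :=
  ⟨Nz.le_normalizer, nz_of_le_normalizer⟩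

theorem Nz.mono {V W B : Subgroup X} (h : Nz W B) (hVW : V ≤ W) : Nz V B := fun v hv => h v (hVW hv)

theorem nz_normal (V B : Subgroup X) [hB : B.Normal] : Nz V B := fun v _ x hx => hB.conj_mem x hx v

theorem nz_self (B : Subgroup X) : Nz B B := fun v hv x hx => B.mul_mem (B.mul_mem hv hx) (B.inv_mem hv)

theorem Nz.inf {V B C : Subgroup X} (h : Nz V B) (h' : Nz V C) : Nz V (B ⊓ C) :=
  fun v hv x hx => ⟨h v hv x hx.1, h' v hv x hx.2⟩

theorem Nz.sup {V W B : Subgroup X} (h : Nz V B) (h' : Nz W B) : Nz (V ⊔ W) B := by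
  rw [nz_iff] at *
  exact sup_le h h'

/-- `B` is a nilpotent Hall `π`-subgroup of `A`. -/
structure NHall (π : Set ℕ) (B A : Subgroup X) : Prop where
  le : B ≤ A
  pi : PiN π (Nat.card B)
  idx : ∀ p : ℕ, p.Prime → p ∈ π → ¬ p ∣ B.relIndex A
  nil : Group.IsNilpotent B

variable {π : Set ℕ}

theorem card_cj (g : X) (B : Subgroup X) : Nat.card (MulAut.conj g • B : Subgroup X) = Nat.card B :=
  Nat.card_congr (Subgroup.equivSMul (MulAut.conj g) B).toEquiv.symm

theorem NHall.cj {B A : Subgroup X} (h : NHall π B A) {g : X} (hg : MulAut.conj g • A = A) :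
    NHall π (MulAut.conj g • B) A := by
  refine ⟨?_, ?_, ?_, ?_⟩
  · rw [← hg]
    exact Subgroup.pointwise_smul_le_pointwise_smul_iff.mpr h.le
  · rw [card_cj]
    exact h.pi
  · intro p hp hpp
    have h1 : (MulAut.conj g • B).relIndex A = B.relIndex A := by
      conv_lhs => rw [← hg]
      exact Subgroup.relIndex_pointwise_smul _ _ _
    rw [h1]
    exact h.idx p hp hpp
  · have := h.nil
    exact Group.nilpotent_of_surjective (Subgroup.equivSMul (MulAut.conj g) B).toMonoidHom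
      (Subgroup.equivSMul (MulAut.conj g) B).surjective

variable [Finite X]

theorem NHall.card_eq {B B' A : Subgroup X} (h : B ≤ A) (h' : B' ≤ A) (hp : PiN π (Nat.card B))
    (hp' : PiN π (Nat.card B')) (hi : ∀ p : ℕ, p.Prime → p ∈ π → ¬ p ∣ B.relIndex A)
    (hi' : ∀ p : ℕ, p.Prime → p ∈ π → ¬ p ∣ B'.relIndex A) : Nat.card B = Nat.card B' := by
  have h1 : Nat.card B * B.relIndex A = Nat.card B' * B'.relIndex A := by
    rw [← Subgroup.relIndex_bot_left B, Subgroup.relIndex_mul_relIndex _ _ _ bot_le h,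
      ← Subgroup.relIndex_bot_left B', Subgroup.relIndex_mul_relIndex _ _ _ bot_le h']
  exact mul_unique hp (fun p h2 h3 => hi p h2 h3) hp' (fun p h2 h3 => hi' p h2 h3) h1

/-- Wielandt's theorem. -/
theorem NHall.wielandt {B A U : Subgroup X} (h : NHall π B A) (hU : U ≤ A) (hUp : PiN π (Nat.card U)) :
    ∃ a ∈ A, U ≤ MulAut.conj a • B := by
  have e : ∀ V : Subgroup X, V ≤ A → Nat.card (V.subgroupOf A) = Nat.card V :=
    fun V hV => Nat.card_congr (Subgroup.subgroupOfEquivOfLe hV).toEquiv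
  have hn : Group.IsNilpotent (B.subgroupOf A) := by
    have := h.nil
    exact Group.nilpotent_of_surjective (Subgroup.subgroupOfEquivOfLe h.le).symm.toMonoidHom
      (Subgroup.subgroupOfEquivOfLe h.le).symm.surjective
  have hcop : (Nat.card (B.subgroupOf A)).Coprime (B.subgroupOf A).index := by
    rw [e B h.le]
    exact h.pi.coprime (fun p hp hpp => h.idx p hp hpp)
  obtain ⟨x, hx⟩ := Cfsg.Agent.S0581.result (B.subgroupOf A) (U.subgroupOf A) hn hcop (by
    intro p hp hd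
    rw [e U hU] at hd
    rw [e B h.le]
    have h1 : p ∣ Nat.card A := hd.trans (Subgroup.card_dvd_of_le hU)
    rw [← Subgroup.relIndex_bot_left A, ← Subgroup.relIndex_mul_relIndex _ _ _ bot_le h.le,
      Subgroup.relIndex_bot_left] at h1
    rcases hp.dvd_mul.mp h1 with h2 | h2
    · exact h2
    · exact absurd h2 (h.idx p hp (hUp p hp hd)))
  refine ⟨x, x.2, fun y hy => ?_⟩
  have h1 : (⟨y, hU hy⟩ : A) ∈ U.subgroupOf A := hy
  have h2 := hx h1
  rw [mem_cj] at h2 ⊢
  exact h2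

theorem eq_of_le_of_card {B C : Subgroup X} (h : B ≤ C) (hc : Nat.card C = Nat.card B) : B = C :=
  Subgroup.eq_of_le_of_card_ge h hc.le

/-- Every Hall `π`-subgroup of `A` is conjugate to `B`. -/
theorem NHall.conj_of_hall {B B' A : Subgroup X} (h : NHall π B A) (hB' : B' ≤ A) (hp' : PiN π (Nat.card B'))
    (hi' : ∀ p : ℕ, p.Prime → p ∈ π → ¬ p ∣ B'.relIndex A) : ∃ a ∈ A, B' = MulAut.conj a • B := by
  obtain ⟨a, ha, hle⟩ := h.wielandt hB' hp'
  refine ⟨a, ha, eq_of_le_of_card hle ?_⟩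
  rw [card_cj]
  exact NHall.card_eq h.le hB' h.pi hp' h.idx hi'

theorem cj_eq_of_mem {A : Subgroup X} {a : X} (ha : a ∈ A) : MulAut.conj a • A = A := (nz_self A).smul_eq ha

theorem NHall.of_hall {B B' A : Subgroup X} (h : NHall π B A) (hB' : B' ≤ A) (hp' : PiN π (Nat.card B'))
    (hi' : ∀ p : ℕ, p.Prime → p ∈ π → ¬ p ∣ B'.relIndex A) : NHall π B' A := by
  obtain ⟨a, ha, rfl⟩ := h.conj_of_hall hB' hp' hi'
  exact h.cj (cj_eq_of_mem ha)

theorem NHall.conj {B B' A : Subgroup X} (h : NHall π B A) (h' : NHall π B' A) : ∃ a ∈ A, B' = MulAut.conj a • B :=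
  h.conj_of_hall h'.le h'.pi h'.idx

/-- elements of `B` whose orders are powers of different primes commute -/
theorem NHall.comm {B A : Subgroup X} (h : NHall π B A) {p q : ℕ} (hp : p.Prime) (hq : q.Prime) (hpq : p ≠ q) {x y : X}
    (hx : x ∈ B) (hy : y ∈ B) (hxp : ∃ k : ℕ, orderOf x = p ^ k) (hyq : ∃ k : ℕ, orderOf y = q ^ k) :
    x * y = y * x := by
  have := h.nil
  obtain ⟨k, hk⟩ := hxp
  obtain ⟨l, hl⟩ := hyq
  have h1 : Commute (⟨x, hx⟩ : B) ⟨y, hy⟩ := by
    apply Lib.NilpotentCoprime.commute_of_coprime_orderOf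
    rw [Subgroup.orderOf_mk, Subgroup.orderOf_mk, hk, hl]
    exact Nat.Coprime.pow _ _ ((Nat.coprime_primes hp hq).mpr hpq)
  exact congrArg Subtype.val h1

theorem isPGroup_elem {q : ℕ} [Fact q.Prime] {Q : Subgroup X} (h : IsPGroup q Q) {x : X} (hx : x ∈ Q) :
    ∃ k : ℕ, orderOf x = q ^ k := by
  obtain ⟨k, hk⟩ := IsPGroup.iff_orderOf.mp h ⟨x, hx⟩
  exact ⟨k, by rw [← hk, Subgroup.orderOf_mk]⟩

/-- The `q`-part of a nilpotent Hall subgroup. -/
theorem exists_qpart {B : Subgroup X} (hB : Group.IsNilpotent B) (q : ℕ) (hq : q.Prime) :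
    ∃ Q : Subgroup X, Q ≤ B ∧ IsPGroup q Q ∧ (∀ x ∈ B, (∃ k : ℕ, orderOf x = q ^ k) → x ∈ Q) ∧
      ¬ q ∣ Q.relIndex B := by
  haveI : Fact q.Prime := ⟨hq⟩
  obtain ⟨S⟩ : Nonempty (Sylow q B) := inferInstance
  have hn : (S : Subgroup B).Normal := by
    have := ((Group.isNilpotent_of_finite_tfae (G := B)).out 0 3).mp hB
    exact this q ⟨hq⟩ S
  refine ⟨(S : Subgroup B).map B.subtype, Subgroup.map_subtype_le _, S.2.map _, ?_, ?_⟩
  · rintro x hx ⟨k, hk⟩
    refine ⟨⟨x, hx⟩, ?_, rfl⟩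
    have h1 : IsPGroup q (Subgroup.zpowers (⟨x, hx⟩ : B)) := by
      rw [IsPGroup.iff_card]
      exact ⟨k, by rw [Nat.card_zpowers, Subgroup.orderOf_mk, hk]⟩
    obtain ⟨T, hT⟩ := h1.exists_le_sylow
    obtain ⟨g, hg⟩ := MulAction.exists_smul_eq B S T
    have h2 : (T : Subgroup B) = S := by
      rw [← hg, Sylow.smul_eq_of_normal]
    exact h2 ▸ hT (Subgroup.mem_zpowers _)
  · have h1 : ((S : Subgroup B).map B.subtype).relIndex B = (S : Subgroup B).index := by
      have h2 : ((S : Subgroup B).map B.subtype).subgroupOf B = S := by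
        rw [Subgroup.subgroupOf, Subgroup.comap_map_eq_self_of_injective B.subtype_injective]
      show (((S : Subgroup B).map B.subtype).subgroupOf B).index = _
      rw [h2]
    rw [h1]
    exact S.not_dvd_index

/-- A conjugation-invariant description of the `q`-part. -/
theorem qpart_nz {V B Q : Subgroup X} {q : ℕ} [Fact q.Prime] (hV : Nz V B) (hQB : Q ≤ B) (hQ : IsPGroup q Q)
    (hmax : ∀ x ∈ B, (∃ k : ℕ, orderOf x = q ^ k) → x ∈ Q) : Nz V Q := by
  intro v hv x hx
  refine hmax _ (hV v hv x (hQB hx)) ?_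
  obtain ⟨k, hk⟩ := isPGroup_elem hQ hx
  refine ⟨k, ?_⟩
  rw [← hk]
  exact orderOf_injective (MulAut.conj v).toMonoidHom (MulAut.conj v).injective x

end Cfsg.Agent.H165.NilHall
end

-- part: H165/NHallB
section
/-!
# Nilpotent Hall subgroups of normalizers; fixed points (for P. Hall's theorem D5)
-/

set_option autoImplicit false
open Cfsg
open scoped Pointwise

namespace Cfsg.Agent.H165.NilHall

open Cfsg.Agent.H988.CPi

universe u

variable {X : Type u} [Group X] [Finite X] {π : Set ℕ}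

omit [Finite X] in
theorem nilpotent_of_le {B C : Subgroup X} (h : B ≤ C) [hC : Group.IsNilpotent C] : Group.IsNilpotent B :=
  Group.nilpotent_of_mulEquiv (Subgroup.subgroupOfEquivOfLe h)

theorem piN_of_isPGroup {q : ℕ} (hq : q.Prime) (hqπ : q ∈ π) {D : Subgroup X} (hD : IsPGroup q D) :
    PiN π (Nat.card D) := by
  haveI : Fact q.Prime := ⟨hq⟩
  obtain ⟨k, hk⟩ := IsPGroup.iff_card.mp hD
  intro p hp hd
  rw [hk] at hd
  exact ((Nat.prime_dvd_prime_iff_eq hp hq).mp (hp.dvd_of_dvd_pow hd)) ▸ hqπ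

omit [Finite X] in
theorem mem_normalizer_of_smul_eq {B : Subgroup X} {x : X} (h : MulAut.conj x • B = B) :
    x ∈ Subgroup.normalizer (B : Set X) := by
  rw [Subgroup.mem_normalizer_iff]
  intro y
  constructor
  · intro hy
    have := cj_mem (g := x) hy
    rwa [h] at this
  · intro hy
    rw [← h, mem_cj] at hy
    have h5 : x⁻¹ * (x * y * x⁻¹) * x = y := by group
    rwa [h5] at hy

/-- A relative Sylow subgroup containing a given `q`-subgroup. -/
theorem exists_rel_sylow {q : ℕ} (hq : q.Prime) {D N : Subgroup X} (hDN : D ≤ N) (hD : IsPGroup q D) :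
    ∃ S : Subgroup X, S ≤ N ∧ D ≤ S ∧ IsPGroup q S ∧ ¬ q ∣ S.relIndex N := by
  haveI : Fact q.Prime := ⟨hq⟩
  have h1 : IsPGroup q (D.subgroupOf N) := hD.of_equiv (Subgroup.subgroupOfEquivOfLe hDN).symm
  obtain ⟨T, hT⟩ := h1.exists_le_sylow
  refine ⟨(T : Subgroup N).map N.subtype, Subgroup.map_subtype_le _, ?_, T.2.map _, ?_⟩
  · intro x hx
    exact ⟨⟨x, hDN hx⟩, hT hx, rfl⟩
  · have h2 : ((T : Subgroup N).map N.subtype).subgroupOf N = T := by
      rw [Subgroup.subgroupOf, Subgroup.comap_map_eq_self_of_injective N.subtype_injective]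
    show ¬ q ∣ (((T : Subgroup N).map N.subtype).subgroupOf N).index
    rw [h2]
    exact T.not_dvd_index

/-- Sylow's theorem in a subgroup. -/
theorem rel_sylow_conj {q : ℕ} (hq : q.Prime) {S N : Subgroup X} {U : Subgroup X} (hU : IsPGroup q U) (hUN : U ≤ N)
    (hS : ¬ q ∣ S.relIndex N) : ∃ n ∈ N, ∀ x ∈ U, n * x * n⁻¹ ∈ S := by
  haveI : Fact q.Prime := ⟨hq⟩
  obtain ⟨g, hg⟩ := Cfsg.Agent.H630.NH.exists_conj_le q (U.subgroupOf N)
    (hU.of_equiv (Subgroup.subgroupOfEquivOfLe hUN).symm) (S.subgroupOf N) hS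
  exact ⟨g, g.2, fun x hx => hg ⟨x, hUN hx⟩ hx⟩

/-- normal `π`-subgroups of `A` lie in every Hall `π`-subgroup -/
theorem NHall.le_of_nz {B A D : Subgroup X} (h : NHall π B A) (hDA : D ≤ A) (hD : PiN π (Nat.card D)) (hn : Nz A D) :
    D ≤ B := by
  obtain ⟨a, ha, hle⟩ := h.wielandt hDA hD
  intro x hx
  have h1 := hle (hn a ha x hx)
  rw [mem_cj] at h1
  have h2 : a⁻¹ * (a * x * a⁻¹) * a = x := by group
  rwa [h2] at h1

theorem relIndex_dvd_of_le {H K L : Subgroup X} (h : H ≤ K) : K.relIndex L ∣ H.relIndex L :=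
  Subgroup.relIndex_dvd_of_le_left L h

/-- `N_A(D)` has a nilpotent Hall subgroup. -/
theorem exists_hall_normalizer {q : ℕ} (hq : q.Prime) (hqπ : q ∈ π) {A D : Subgroup X} (hA : ∃ B, NHall π B A)
    (hDA : D ≤ A) (hD : IsPGroup q D) :
    (∃ C, NHall π C (A ⊓ Subgroup.normalizer (D : Set X))) ∧
      ∀ p : ℕ, p.Prime → p ∈ π → p ≠ q → ¬ p ∣ (A ⊓ Subgroup.normalizer (D : Set X)).relIndex A := by
  haveI : Fact q.Prime := ⟨hq⟩
  set N : Subgroup X := A ⊓ Subgroup.normalizer (D : Set X) with hN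
  have hNA : N ≤ A := inf_le_left
  have hDN : D ≤ N := le_inf hDA (nz_self D).le_normalizer
  obtain ⟨Q, hQN, hDQ, hQ, hQi⟩ := exists_rel_sylow hq hDN hD
  obtain ⟨B₀, hB₀⟩ := hA
  obtain ⟨a, ha, hle⟩ := hB₀.wielandt (hQN.trans hNA) (piN_of_isPGroup hq hqπ hQ)
  set B := MulAut.conj a • B₀ with hB
  have hBA : NHall π B A := hB₀.cj (cj_eq_of_mem ha)
  -- the `p`-part of `B` lies in `N`
  have key : ∀ p : ℕ, p.Prime → p ≠ q → ∃ R : Subgroup X, R ≤ B ⊓ N ∧ ¬ p ∣ R.relIndex B := by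
    intro p hp hpq
    haveI : Fact p.Prime := ⟨hp⟩
    obtain ⟨R, hRB, hR, -, hRi⟩ := exists_qpart hBA.nil p hp
    refine ⟨R, le_inf hRB (le_inf (hRB.trans hBA.le) ?_), hRi⟩
    rw [← nz_iff]
    intro v hv x hx
    have h1 : v * x = x * v := hBA.comm hp hq hpq (hRB hv) (hle (hDQ hx)) (isPGroup_elem hR hv) (isPGroup_elem hD hx)
    rw [h1, mul_inv_cancel_right]
    exact hx
  have key2 : ∀ p : ℕ, p.Prime → p ∈ π → p ≠ q → ∃ R : Subgroup X, R ≤ B ⊓ N ∧ ¬ p ∣ R.relIndex A := by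
    intro p hp hpπ hpq
    obtain ⟨R, hR, hRi⟩ := key p hp hpq
    refine ⟨R, hR, ?_⟩
    rw [← Subgroup.relIndex_mul_relIndex _ _ _ (hR.trans inf_le_left) hBA.le]
    intro hd
    rcases hp.dvd_mul.mp hd with h1 | h1
    · exact hRi h1
    · exact hBA.idx p hp hpπ h1
  refine ⟨⟨B ⊓ N, inf_le_right, ?_, ?_, ?_⟩, ?_⟩
  · exact hBA.pi.of_dvd (Subgroup.card_dvd_of_le inf_le_left)
  · intro p hp hpπ hd
    by_cases hpq : p = q
    · subst hpq
      exact hQi (hd.trans (relIndex_dvd_of_le (le_inf hle hQN)))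
    · obtain ⟨R, hR, hRi⟩ := key2 p hp hpπ hpq
      have h1 : p ∣ R.relIndex N := hd.trans (relIndex_dvd_of_le hR)
      have h2 : R.relIndex N ∣ R.relIndex A := by
        rw [← Subgroup.relIndex_mul_relIndex _ _ _ (hR.trans inf_le_right) hNA]
        exact dvd_mul_right _ _
      exact hRi (h1.trans h2)
  · have := hBA.nil
    exact nilpotent_of_le (inf_le_left : B ⊓ N ≤ B)
  · intro p hp hpπ hpq hd
    obtain ⟨R, hR, hRi⟩ := key2 p hp hpπ hpq
    exact hRi (hd.trans (relIndex_dvd_of_le (hR.trans inf_le_right)))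

/-- growth of normalizers -/
theorem not_dvd_of_normalizer {q : ℕ} (hq : q.Prime) {A D : Subgroup X} (hDA : D ≤ A) (hD : IsPGroup q D)
    (h : ¬ q ∣ D.relIndex (A ⊓ Subgroup.normalizer (D : Set X))) : ¬ q ∣ D.relIndex A := by
  haveI : Fact q.Prime := ⟨hq⟩
  obtain ⟨k, hk⟩ := IsPGroup.iff_card.mp hD
  have h1 : Nat.card (D.subgroupOf A) = q ^ k := by
    rw [← hk]; exact Nat.card_congr (Subgroup.subgroupOfEquivOfLe hDA).toEquiv
  have h2 := Sylow.card_quotient_normalizer_modEq_card_quotient h1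
  have h3 : Nat.card (A ⧸ D.subgroupOf A) = D.relIndex A := rfl
  have h4 : Nat.card (↥(Subgroup.normalizer (D.subgroupOf A : Set A)) ⧸
      Subgroup.comap (Subgroup.normalizer (D.subgroupOf A : Set A)).subtype (D.subgroupOf A))
      = (D.subgroupOf A).relIndex (Subgroup.normalizer (D.subgroupOf A : Set A)) := rfl
  have h5 : Subgroup.normalizer (D.subgroupOf A : Set A) = (A ⊓ Subgroup.normalizer (D : Set X)).subgroupOf A := by
    rw [Subgroup.inf_subgroupOf_left]
    exact (Subgroup.subgroupOf_normalizer_eq hDA).symm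
  rw [h4, h3, h5, Subgroup.relIndex_subgroupOf inf_le_left] at h2
  intro h6
  exact h ((Nat.modEq_zero_iff_dvd).mp (h2.trans ((Nat.modEq_zero_iff_dvd).mpr h6)))

/-- `π`-subgroups of `A` normalizing a Hall subgroup lie in it. -/
theorem NHall.le_of_normalizing {B A U : Subgroup X} (h : NHall π B A) (hUA : U ≤ A) (hU : PiN π (Nat.card U))
    (hn : Nz U B) : U ≤ B := by
  set N : Subgroup X := A ⊓ Subgroup.normalizer (B : Set X) with hN
  have hBN : B ≤ N := le_inf h.le (nz_self B).le_normalizer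
  have hUN : U ≤ N := le_inf hUA hn.le_normalizer
  haveI : (B.subgroupOf N).Normal := (Subgroup.normal_subgroupOf_iff_le_normalizer hBN).mpr inf_le_right
  have h1 : (B.subgroupOf N).relIndex (U.subgroupOf N) ∣ (B.subgroupOf N).index := Subgroup.relIndex_dvd_index_of_normal _ _
  rw [Subgroup.relIndex_subgroupOf hUN] at h1
  have h2 : (B.subgroupOf N).index ∣ B.relIndex A := by
    show B.relIndex N ∣ _
    rw [← Subgroup.relIndex_mul_relIndex _ _ _ hBN inf_le_left]
    exact dvd_mul_right _ _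
  rw [← Subgroup.relIndex_eq_one]
  refine eq_one_of_both (π := π) (hU.of_dvd (Subgroup.relIndex_dvd_card B U)) ?_
  intro p hp hpπ hd
  exact h.idx p hp hpπ ((hd.trans h1).trans h2)

/-- elements of `A ⊔ P`, `P` normalizing `A` -/
theorem mem_sup_nz {A P : Subgroup X} (h : Nz P A) {y : X} (hy : y ∈ A ⊔ P) : ∃ p ∈ P, ∃ a ∈ A, y = p * a := by
  have h1 : ((P ⊔ A : Subgroup X) : Set X) = (P : Set X) * (A : Set X) :=
    Subgroup.coe_mul_of_left_le_normalizer_right P A h.le_normalizer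
  have h2 : y ∈ ((P ⊔ A : Subgroup X) : Set X) := by rw [sup_comm]; exact hy
  rw [h1] at h2
  obtain ⟨p, hp, a, ha, rfl⟩ := h2
  exact ⟨p, hp, a, ha, rfl⟩

/-- index of a subgroup of `A ⊔ P` supplementing `A` -/
theorem relIndex_sup_dvd {A P C S : Subgroup X} (h : Nz P A) (hCY : C ≤ A ⊔ P) (hCA : C ⊔ A = A ⊔ P)
    (hS : S ≤ C) (hSA : S ≤ A) : C.relIndex (A ⊔ P) ∣ S.relIndex A := by
  set Y := A ⊔ P with hY
  have hAY : A ≤ Y := le_sup_left
  haveI : (A.subgroupOf Y).Normal := by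
    refine (Subgroup.normal_subgroupOf_iff_le_normalizer hAY).mpr ?_
    rw [← nz_iff]
    exact (nz_self A).sup h
  have h1 := relIndex_mul_sup_index (C.subgroupOf Y) (A.subgroupOf Y)
  have h2 : C.subgroupOf Y ⊔ A.subgroupOf Y = ⊤ := by
    rw [← Subgroup.subgroupOf_sup hCY hAY, hCA, Subgroup.subgroupOf_self]
  rw [h2, Subgroup.index_top, mul_one, Subgroup.relIndex_subgroupOf hAY] at h1
  show (C.subgroupOf Y).index ∣ _
  rw [← h1]
  exact relIndex_dvd_of_le hS

/-- A `q`-group acting on `A` normalizes a nilpotent Hall subgroup. -/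
theorem exists_nz_of_isPGroup {q : ℕ} (hq : q.Prime) (hqπ : q ∈ π) {A P : Subgroup X} (hA : ∃ B, NHall π B A)
    (hP : IsPGroup q P) (hPA : Nz P A) : ∃ B, NHall π B A ∧ Nz P B := by
  obtain ⟨B, hB⟩ := hA
  set Y := A ⊔ P with hY
  set C : Subgroup X := Subgroup.normalizer (B : Set X) ⊓ Y with hC
  have hYA : Nz Y A := (nz_self A).sup hPA
  have hCY : C ≤ Y := inf_le_right
  have hCA : C ⊔ A = Y := by
    refine le_antisymm (sup_le hCY le_sup_left) ?_
    intro y hy
    have h1 : NHall π (MulAut.conj y • B) A := hB.cj (hYA.smul_eq hy)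
    obtain ⟨a, ha, h2⟩ := hB.conj h1
    have h3 : a⁻¹ * y ∈ C := by
      refine ⟨?_, Y.mul_mem (Y.inv_mem (le_sup_left (a := A) ha)) hy⟩
      exact mem_normalizer_of_smul_eq (by rw [← cj_mul, h2, cj_mul, inv_mul_cancel, cj_one])
    have h5 : y = a * (a⁻¹ * y) := by group
    rw [h5]
    exact Subgroup.mul_mem _ (Subgroup.mem_sup_right ha) (Subgroup.mem_sup_left h3)
  have h1 : ¬ q ∣ C.relIndex Y := by
    intro hd
    exact hB.idx q hq hqπ (hd.trans (relIndex_sup_dvd hPA hCY hCA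
      (le_inf (nz_self B).le_normalizer (hB.le.trans le_sup_left)) hB.le))
  obtain ⟨y, hy, h2⟩ := rel_sylow_conj hq hP (le_sup_right (a := A)) h1
  refine ⟨MulAut.conj y⁻¹ • B, hB.cj (hYA.smul_eq (Y.inv_mem hy)), ?_⟩
  intro v hv x hx
  rw [mem_cj, inv_inv] at hx ⊢
  have h3 := (Subgroup.mem_normalizer_iff.mp (h2 v hv).1 _).mp hx
  have h4 : y * v * y⁻¹ * (y * x * y⁻¹) * (y * v * y⁻¹)⁻¹ = y * (v * x * v⁻¹) * y⁻¹ := by group
  rwa [h4] at h3

/-- The key comparison. -/
theorem compare {q : ℕ} (hq : q.Prime) (hqπ : q ∈ π) {A P B : Subgroup X} (hB : NHall π B A) (hP : IsPGroup q P)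
    (hPA : Nz P A) (hdisj : A ⊓ P = ⊥) (hPB : Nz P B) {a : X} (ha : a ∈ A) (hPa : Nz P (MulAut.conj a • B)) :
    ∃ n ∈ A, MulAut.conj n • B = B ∧
      ∀ m ∈ P, ∃ b ∈ B, (∃ k : ℕ, orderOf b = q ^ k) ∧ (n * a⁻¹) * m * (n * a⁻¹)⁻¹ = b * m := by
  haveI : Fact q.Prime := ⟨hq⟩
  obtain ⟨Q, hQB, hQ, hQmax, hQi⟩ := exists_qpart hB.nil q hq
  have hPQ : Nz P Q := qpart_nz hPB hQB hQ hQmax
  have hQP : IsPGroup q (P ⊔ Q : Subgroup X) := hP.to_sup_of_normal_right' hQ hPQ.le_normalizer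
  set Y := A ⊔ P with hY
  set N : Subgroup X := Subgroup.normalizer (B : Set X) ⊓ Y with hN
  have hPN : P ≤ N := le_inf hPB.le_normalizer le_sup_right
  have hQN : Q ≤ N := le_inf ((nz_self B).mono hQB).le_normalizer ((hQB.trans hB.le).trans le_sup_left)
  have hSN : P ⊔ Q ≤ N := sup_le hPN hQN
  have hi : ¬ q ∣ (P ⊔ Q).relIndex N := by
    intro hd
    have h1 : (P ⊔ Q).relIndex N ∣ (P ⊔ Q).relIndex Y := by
      rw [← Subgroup.relIndex_mul_relIndex _ _ _ hSN inf_le_right]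
      exact dvd_mul_right _ _
    have h2 : (P ⊔ Q).relIndex Y ∣ Q.relIndex A := by
      refine relIndex_sup_dvd hPA (hSN.trans inf_le_right) ?_ le_sup_right (hQB.trans hB.le)
      refine le_antisymm (sup_le (hSN.trans inf_le_right) le_sup_left) (sup_le le_sup_right ?_)
      exact le_sup_left.trans le_sup_left
    have h3 := (hd.trans h1).trans h2
    rw [← Subgroup.relIndex_mul_relIndex _ _ _ hQB hB.le] at h3
    rcases hq.dvd_mul.mp h3 with h4 | h4
    · exact hQi h4
    · exact hB.idx q hq hqπ h4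
  -- the conjugate of `P`
  have hU : MulAut.conj a⁻¹ • P ≤ N := by
    intro x hx
    rw [mem_cj, inv_inv] at hx
    refine ⟨?_, ?_⟩
    · have h1 := hPa.smul_eq hx
      rw [cj_mul] at h1
      have h2 : MulAut.conj x • B = B := by
        have h3 := congrArg (fun Z => MulAut.conj a⁻¹ • Z) h1
        simp only [cj_mul] at h3
        have h4 : a⁻¹ * (a * x * a⁻¹ * a) = x := by group
        rw [h4, inv_mul_cancel, cj_one] at h3
        exact h3
      exact mem_normalizer_of_smul_eq h2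
    · have h1 : x = a⁻¹ * (a * x * a⁻¹) * a := by group
      rw [h1]
      have h2 : a ∈ Y := le_sup_left (a := A) ha
      exact Y.mul_mem (Y.mul_mem (Y.inv_mem h2) (le_sup_right (a := A) hx)) h2
  have hUp : IsPGroup q (MulAut.conj a⁻¹ • P : Subgroup X) := hP.of_equiv (Subgroup.equivSMul (MulAut.conj a⁻¹) P)
  obtain ⟨n, hn, hn2⟩ := rel_sylow_conj hq hUp hU hi
  obtain ⟨p, hp, c, hc, rfl⟩ := mem_sup_nz hPA hn.2
  have hcB : MulAut.conj c • B = B := by
    have h1 : MulAut.conj (p * c) • B = B := (nz_of_le_normalizer (V := Subgroup.normalizer (B : Set X)) le_rfl).smul_eq hn.1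
    have h2 : MulAut.conj p • B = B := hPB.smul_eq hp
    have h3 : MulAut.conj p⁻¹ • B = B := hPB.smul_eq (P.inv_mem hp)
    have h4 := congrArg (fun Z => MulAut.conj p⁻¹ • Z) h1
    simp only [cj_mul] at h4
    have h5 : p⁻¹ * (p * c) = c := by group
    rw [h5, h3] at h4
    exact h4
  refine ⟨c, hc, hcB, ?_⟩
  intro m hm
  have h1 : a⁻¹ * m * a ∈ MulAut.conj a⁻¹ • P := by
    rw [mem_cj, inv_inv]
    have : a * (a⁻¹ * m * a) * a⁻¹ = m := by group
    rwa [this]
  have h2 := hn2 _ h1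
  have h3 : (c * a⁻¹) * m * (c * a⁻¹)⁻¹ ∈ P ⊔ Q := by
    have h4 : (c * a⁻¹) * m * (c * a⁻¹)⁻¹ = p⁻¹ * (p * c * (a⁻¹ * m * a) * (p * c)⁻¹) * p := by group
    rw [h4]
    have hp' : p ∈ P ⊔ Q := Subgroup.mem_sup_left hp
    exact Subgroup.mul_mem _ (Subgroup.mul_mem _ (Subgroup.inv_mem _ hp') h2) hp'
  have h4 : ((Q ⊔ P : Subgroup X) : Set X) = (Q : Set X) * (P : Set X) :=
    Subgroup.coe_mul_of_right_le_normalizer_left Q P hPQ.le_normalizer
  have h5 : (c * a⁻¹) * m * (c * a⁻¹)⁻¹ ∈ ((Q ⊔ P : Subgroup X) : Set X) := by rw [sup_comm]; exact h3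
  rw [h4] at h5
  obtain ⟨b, hb, m', hm', he⟩ := h5
  have he' : b * m' = (c * a⁻¹) * m * (c * a⁻¹)⁻¹ := he
  have h6 : m' * m⁻¹ ∈ A ⊓ P := by
    refine ⟨?_, P.mul_mem hm' (P.inv_mem hm)⟩
    have h7 : m' * m⁻¹ = b⁻¹ * ((c * a⁻¹) * (m * (c * a⁻¹)⁻¹ * m⁻¹)) := by
      have : m' = b⁻¹ * ((c * a⁻¹) * m * (c * a⁻¹)⁻¹) := by rw [← he']; group
      rw [this]; group
    rw [h7]
    have hca : c * a⁻¹ ∈ A := A.mul_mem hc (A.inv_mem ha)
    exact A.mul_mem (A.inv_mem (hB.le (hQB hb))) (A.mul_mem hca (hPA m hm _ (A.inv_mem hca)))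
  rw [hdisj, Subgroup.mem_bot] at h6
  have h7 : m' = m := mul_inv_eq_one.mp h6
  exact ⟨b, hQB hb, isPGroup_elem hQ hb, by rw [← he', h7]⟩

end Cfsg.Agent.H165.NilHall
end

-- part: H165/NHallC
section
/-!
# P. Hall's theorem D5: a solvable `π`-group acting on a group with nilpotent Hall `π`-subgroups normalizes one
-/

set_option autoImplicit false
open Cfsg
open scoped Pointwise

namespace Cfsg.Agent.H165.NilHall

open Cfsg.Agent.H988.CPi

universe u

variable {π : Set ℕ}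

/-- The statement for groups of order less than `n`. -/
def Goal (π : Set ℕ) (n : ℕ) : Prop :=
  ∀ (X : Type u) [Group X] [Finite X] (A V : Subgroup X), Nat.card A < n → (∃ B, NHall π B A) → Nz V A →
    PiN π (Nat.card V) → Group.IsSolvable V → ∃ B, NHall π B A ∧ Nz V B

theorem solvable_map {X Y : Type*} [Group X] [Group Y] (f : X →* Y) {V : Subgroup X} (h : Group.IsSolvable V) :
    Group.IsSolvable (V.map f) :=
  Group.isSolvable_of_surjective (f.subgroupMap_surjective V)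

theorem solvable_subgroupOf {X : Type*} [Group X] {V N : Subgroup X} (hVN : V ≤ N) (h : Group.IsSolvable V) :
    Group.IsSolvable (V.subgroupOf N) :=
  Group.isSolvable_of_surjective (f := (Subgroup.subgroupOfEquivOfLe hVN).symm.toMonoidHom)
    (Subgroup.subgroupOfEquivOfLe hVN).symm.surjective

theorem card_subgroupOf {X : Type*} [Group X] {V N : Subgroup X} (hVN : V ≤ N) :
    Nat.card (V.subgroupOf N) = Nat.card V := Nat.card_congr (Subgroup.subgroupOfEquivOfLe hVN).toEquiv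

section Quot

variable {X : Type u} [Group X] [Finite X]

/-- quotient by a `V`-invariant normal `π`-subgroup of `A` -/
theorem quot_step {A V D : Subgroup X} (ih : Goal.{u} π (Nat.card A)) (hA : ∃ B, NHall π B A) (hVA : Nz V A)
    (hV : PiN π (Nat.card V)) (hVs : Group.IsSolvable V) (hDA : D ≤ A) (hD : D ≠ ⊥) (hDp : PiN π (Nat.card D))
    (hAD : Nz A D) (hVD : Nz V D) : ∃ B, NHall π B A ∧ Nz V B := by
  obtain ⟨B₀, hB₀⟩ := hA
  set N : Subgroup X := Subgroup.normalizer (D : Set X) with hN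
  have hAN : A ≤ N := hAD.le_normalizer
  have hVN : V ≤ N := hVD.le_normalizer
  have hDN : D ≤ N := hDA.trans hAN
  have hDB : D ≤ B₀ := hB₀.le_of_nz hDA hDp hAD
  haveI : (D.subgroupOf N).Normal := (Subgroup.normal_subgroupOf_iff_le_normalizer hDN).mpr le_rfl
  set f : N →* N ⧸ D.subgroupOf N := QuotientGroup.mk' _ with hf
  have hfs : Function.Surjective f := QuotientGroup.mk'_surjective _
  have hker : f.ker = D.subgroupOf N := QuotientGroup.ker_mk' _
  set A' := (A.subgroupOf N).map f with hA'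
  set V' := (V.subgroupOf N).map f with hV'
  have hcA' : Nat.card A' = D.relIndex A := by
    rw [hA', ← Subgroup.relIndex_ker, hker, Subgroup.relIndex_subgroupOf hAN]
  have hcA : Nat.card D * D.relIndex A = Nat.card A := by
    rw [← Subgroup.relIndex_bot_left D, Subgroup.relIndex_mul_relIndex _ _ _ bot_le hDA, Subgroup.relIndex_bot_left]
  have hlt : Nat.card A' < Nat.card A := by
    have h1 : 1 < Nat.card D := (Subgroup.one_lt_card_iff_ne_bot D).2 hD
    have h2 : 0 < Nat.card A' := Nat.card_pos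
    rw [hcA'] at h2 ⊢
    rw [← hcA]
    nlinarith only [h1, h2]
  -- the image of `B₀`
  have hBN : B₀ ≤ N := hB₀.le.trans hAN
  have hB' : NHall π ((B₀.subgroupOf N).map f) A' := by
    refine ⟨?_, ?_, ?_, ?_⟩
    · exact Subgroup.map_mono (fun x hx => hB₀.le hx)
    · refine PiN.of_dvd ?_ (Subgroup.card_map_dvd _ _)
      rw [card_subgroupOf hBN]
      exact hB₀.pi
    · intro p hp hpπ hd
      rw [hA', Subgroup.relIndex_map_map, hker] at hd
      have h1 : A.subgroupOf N ⊔ D.subgroupOf N = A.subgroupOf N :=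
        sup_eq_left.mpr (fun x hx => hDA hx)
      have h2 : B₀.subgroupOf N ⊔ D.subgroupOf N = B₀.subgroupOf N :=
        sup_eq_left.mpr (fun x hx => hDB hx)
      rw [h1, h2, Subgroup.relIndex_subgroupOf hAN] at hd
      exact hB₀.idx p hp hpπ hd
    · have := hB₀.nil
      have h1 : Group.IsNilpotent (B₀.subgroupOf N) :=
        Group.nilpotent_of_mulEquiv (Subgroup.subgroupOfEquivOfLe hBN).symm
      exact Group.nilpotent_of_surjective (f.subgroupMap (B₀.subgroupOf N)) (f.subgroupMap_surjective _)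
  obtain ⟨C, hC, hVC⟩ := ih (N ⧸ D.subgroupOf N) A' V' hlt ⟨_, hB'⟩
    (by
      rintro _ ⟨v, hv, rfl⟩ _ ⟨a, ha, rfl⟩
      exact ⟨v * a * v⁻¹, hVA v hv a ha, by simp only [_root_.map_mul, _root_.map_inv]⟩)
    (by
      refine PiN.of_dvd ?_ (Subgroup.card_map_dvd _ _)
      rw [card_subgroupOf hVN]
      exact hV)
    (solvable_map f (solvable_subgroupOf hVN hVs))
  have hCA : C.comap f ≤ A.subgroupOf N := by
    have h1 : C.comap f ≤ A'.comap f := Subgroup.comap_mono hC.le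
    rw [hA', Subgroup.comap_map_eq, hker] at h1
    exact h1.trans (sup_le le_rfl (fun x hx => hDA hx))
  have hBA : (C.comap f).map N.subtype ≤ A := by
    rintro _ ⟨x, hx, rfl⟩
    exact hCA hx
  have hcard : Nat.card (C.comap f) = Nat.card D * Nat.card C := by
    have h1 : f.ker ≤ C.comap f := fun x hx => by
      rw [Subgroup.mem_comap, MonoidHom.mem_ker.mp hx]
      exact one_mem _
    have h2 : f.ker.relIndex (C.comap f) = Nat.card C := by
      rw [Subgroup.relIndex_ker, Subgroup.map_comap_eq_self_of_surjective hfs]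
    have h3 : Nat.card f.ker = Nat.card D := by rw [hker, card_subgroupOf hDN]
    rw [← h2, ← h3, ← Subgroup.relIndex_bot_left f.ker, Subgroup.relIndex_mul_relIndex _ _ _ bot_le h1,
      Subgroup.relIndex_bot_left]
  have hcard2 : Nat.card ((C.comap f).map N.subtype) = Nat.card D * Nat.card C := by
    rw [Subgroup.card_map_of_injective N.subtype_injective, hcard]
  refine ⟨(C.comap f).map N.subtype, hB₀.of_hall hBA ?_ ?_, ?_⟩
  · rw [hcard2]
    exact hDp.mul hC.pi
  · intro p hp hpπ hd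
    have h1 : ((C.comap f).map N.subtype).relIndex A = C.relIndex A' := by
      have h2 : A = (A.subgroupOf N).map N.subtype := (Subgroup.map_subgroupOf_eq_of_le hAN).symm
      conv_lhs => rw [h2]
      rw [Subgroup.relIndex_map_map_of_injective _ _ N.subtype_injective, Subgroup.relIndex_comap]
    rw [h1] at hd
    exact hC.idx p hp hpπ hd
  · rintro v hv _ ⟨x, hx, rfl⟩
    refine ⟨⟨v, hVN hv⟩ * x * ⟨v, hVN hv⟩⁻¹, ?_, rfl⟩
    show f (⟨v, hVN hv⟩ * x * ⟨v, hVN hv⟩⁻¹) ∈ C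
    rw [map_mul, map_mul, map_inv]
    exact hVC _ ⟨⟨v, hVN hv⟩, hv, rfl⟩ _ hx

/-- Case 1: `V` normalizes a nontrivial `q`-subgroup of `A`. -/
theorem case_one {A V : Subgroup X} (ih : Goal.{u} π (Nat.card A)) (hA : ∃ B, NHall π B A) (hVA : Nz V A)
    (hV : PiN π (Nat.card V)) (hVs : Group.IsSolvable V) {q : ℕ} (hq : q.Prime) (hqπ : q ∈ π) {D₀ : Subgroup X}
    (hDA₀ : D₀ ≤ A) (hD₀ : D₀ ≠ ⊥) (hDq₀ : IsPGroup q D₀) (hVD₀ : Nz V D₀) : ∃ B, NHall π B A ∧ Nz V B := by
  haveI : Fact q.Prime := ⟨hq⟩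
  obtain ⟨D, hDD, hDmax⟩ := Finite.exists_le_maximal (α := Subgroup X)
    (p := fun D => D ≤ A ∧ IsPGroup q D ∧ Nz V D) (a := D₀) ⟨hDA₀, hDq₀, hVD₀⟩
  obtain ⟨⟨hDA, hDq, hVD⟩, hmax⟩ := hDmax
  have hD : D ≠ ⊥ := fun h => hD₀ (le_bot_iff.mp (h ▸ hDD))
  have hDp : PiN π (Nat.card D) := piN_of_isPGroup hq hqπ hDq
  set M : Subgroup X := A ⊓ Subgroup.normalizer (D : Set X) with hM
  obtain ⟨hMH, hMi⟩ := exists_hall_normalizer hq hqπ hA hDA hDq
  by_cases hMA : M = A
  · refine quot_step ih hA hVA hV hVs hDA hD hDp ?_ hVD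
    rw [nz_iff]
    exact inf_eq_left.mp hMA
  · have hMle : M ≤ A := inf_le_left
    have hlt : Nat.card M < Nat.card A := by
      refine lt_of_le_of_ne (Nat.le_of_dvd Nat.card_pos (Subgroup.card_dvd_of_le hMle)) (fun h => ?_)
      exact hMA (eq_of_le_of_card hMle h.symm)
    have hDM : D ≤ M := le_inf hDA (nz_self D).le_normalizer
    have hVN : Nz V (Subgroup.normalizer (D : Set X)) :=
      (nz_self (Subgroup.normalizer (D : Set X))).mono hVD.le_normalizer
    obtain ⟨B, hB, hVB⟩ := ih X M V hlt hMH (hVA.inf hVN) hV hVs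
    have hDB : D ≤ B := hB.le_of_nz hDM hDp (nz_of_le_normalizer inf_le_right)
    obtain ⟨Q, hQB, hQ, hQmax, hQi⟩ := exists_qpart hB.nil q hq
    have hDQ : D ≤ Q := fun x hx => hQmax x (hDB hx) (isPGroup_elem hDq hx)
    have hQD : Q = D := le_antisymm (hmax ⟨(hQB.trans hB.le).trans hMle, hQ, qpart_nz hVB hQB hQ hQmax⟩ hDQ) hDQ
    have h1 : ¬ q ∣ D.relIndex M := by
      rw [← hQD, ← Subgroup.relIndex_mul_relIndex _ _ _ hQB hB.le]
      intro hd
      rcases hq.dvd_mul.mp hd with h2 | h2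
      · exact hQi h2
      · exact hB.idx q hq hqπ h2
    have h2 : ¬ q ∣ D.relIndex A := not_dvd_of_normalizer hq hDA hDq h1
    obtain ⟨B₀, hB₀⟩ := hA
    refine ⟨B, hB₀.of_hall (hB.le.trans hMle) hB.pi ?_, hVB⟩
    intro p hp hpπ hd
    by_cases hpq : p = q
    · subst hpq
      exact h2 (hd.trans (relIndex_dvd_of_le hDB))
    · rw [← Subgroup.relIndex_mul_relIndex _ _ _ hB.le hMle] at hd
      rcases hp.dvd_mul.mp hd with h3 | h3
      · exact hB.idx p hp hpπ h3
      · exact hMi p hp hpπ hpq h3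

theorem card_sup_comm {P S : Subgroup X} (h : ∀ x ∈ P, ∀ y ∈ S, x * y = y * x) :
    Nat.card (P ⊔ S : Subgroup X) ∣ Nat.card P * Nat.card S ∧
      (Group.IsSolvable P → Group.IsSolvable S → Group.IsSolvable (P ⊔ S : Subgroup X)) := by
  have hc : ∀ (m : P) (n : S), Commute (P.subtype m) (S.subtype n) := fun m n => h m m.2 n n.2
  have hr : (P.subtype.noncommCoprod S.subtype hc).range = P ⊔ S := by
    rw [MonoidHom.noncommCoprod_range, Subgroup.range_subtype, Subgroup.range_subtype]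
  constructor
  · have h1 := Subgroup.card_range_dvd (P.subtype.noncommCoprod S.subtype hc)
    rw [hr, Nat.card_prod] at h1
    exact h1
  · intro hP hS
    have h1 : Group.IsSolvable (P × S) := inferInstance
    have h2 : Group.IsSolvable (P.subtype.noncommCoprod S.subtype hc).range :=
      Group.isSolvable_of_surjective (MonoidHom.rangeRestrict_surjective _)
    rw [hr] at h2
    exact h2

/-- `C_A(P)` has a nilpotent Hall subgroup. -/
theorem hall_centralizer {q : ℕ} (hq : q.Prime) (hqπ : q ∈ π) {A P : Subgroup X} (hA : ∃ B, NHall π B A)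
    (hP : IsPGroup q P) (hPA : Nz P A) (hdisj : A ⊓ P = ⊥)
    (h1 : ∀ (V D : Subgroup X) (r : ℕ), Nz V A → PiN π (Nat.card V) → Group.IsSolvable V → r.Prime → r ∈ π → D ≤ A →
      D ≠ ⊥ → IsPGroup r D → Nz V D → ∃ B, NHall π B A ∧ Nz V B) :
    ∃ C, NHall π C (A ⊓ Subgroup.centralizer (P : Set X)) := by
  haveI : Fact q.Prime := ⟨hq⟩
  set F : Subgroup X := A ⊓ Subgroup.centralizer (P : Set X) with hF
  have hFA : F ≤ A := inf_le_left
  have hFc : ∀ x ∈ F, ∀ m ∈ P, m * x = x * m := fun x hx m hm => Subgroup.mem_centralizer_iff.mp hx.2 m hm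
  obtain ⟨T, hTF, -, hT, hTi⟩ := exists_rel_sylow hq (bot_le (a := F)) IsPGroup.of_bot
  have hTP : Nz T P := by
    intro t ht m hm
    rw [← hFc t (hTF ht) m hm, mul_inv_cancel_right]
    exact hm
  have hTPq : IsPGroup q (T ⊔ P : Subgroup X) := hT.to_sup_of_normal_right' hP hTP.le_normalizer
  obtain ⟨B, hB, hTPB⟩ := exists_nz_of_isPGroup hq hqπ hA hTPq (((nz_self A).mono (hTF.trans hFA)).sup hPA)
  have hPB : Nz P B := hTPB.mono le_sup_right
  have hTB : T ≤ B := hB.le_of_normalizing (hTF.trans hFA) (piN_of_isPGroup hq hqπ hT) (hTPB.mono le_sup_left)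
  set W : Subgroup X := B ⊓ Subgroup.centralizer (P : Set X) with hW
  have hWF : W ≤ F := inf_le_inf_right _ hB.le
  refine ⟨W, hWF, hB.pi.of_dvd (Subgroup.card_dvd_of_le inf_le_left), ?_, ?_⟩
  · intro r hr hrπ hd
    by_cases hrq : r = q
    · subst hrq
      exact hTi (hd.trans (relIndex_dvd_of_le (le_inf hTB (hTF.trans inf_le_right))))
    haveI : Fact r.Prime := ⟨hr⟩
    obtain ⟨S, hSF, -, hS, hSi⟩ := exists_rel_sylow hr (bot_le (a := F)) IsPGroup.of_bot
    by_cases hSb : S = ⊥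
    · rw [hSb] at hSi
      exact hSi (hd.trans (relIndex_dvd_of_le bot_le))
    have hcomm : ∀ x ∈ P, ∀ y ∈ S, x * y = y * x := fun x hx y hy => hFc y (hSF hy) x hx
    obtain ⟨hcard, hsolv⟩ := card_sup_comm hcomm
    have hPs : Group.IsSolvable P := by
      have := hP.isNilpotent
      infer_instance
    have hSs : Group.IsSolvable S := by
      have := hS.isNilpotent
      infer_instance
    have hPS : Nz P S := by
      intro m hm s hs
      rw [hcomm m hm s hs, mul_inv_cancel_right]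
      exact hs
    obtain ⟨B', hB', hPSB⟩ := h1 (P ⊔ S) S r (hPA.sup ((nz_self A).mono (hSF.trans hFA)))
      (((piN_of_isPGroup hq hqπ hP).mul (piN_of_isPGroup hr hrπ hS)).of_dvd hcard) (hsolv hPs hSs) hr hrπ
      (hSF.trans hFA) hSb hS (hPS.sup (nz_self S))
    have hSB' : S ≤ B' := hB'.le_of_normalizing (hSF.trans hFA) (piN_of_isPGroup hr hrπ hS) (hPSB.mono le_sup_right)
    obtain ⟨a, ha, rfl⟩ := hB.conj hB'
    obtain ⟨n, hn, hnB, hcmp⟩ := compare hq hqπ hB hP hPA hdisj hPB ha (hPSB.mono le_sup_left)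
    -- the conjugate of `S` lies in `W`
    have hSW : MulAut.conj (n * a⁻¹) • S ≤ W := by
      intro y hy
      rw [mem_cj] at hy
      set s := (n * a⁻¹)⁻¹ * y * (n * a⁻¹) with hs
      have hys : y = (n * a⁻¹) * s * (n * a⁻¹)⁻¹ := by rw [hs]; group
      have hyB : y ∈ B := by
        have h2 : MulAut.conj (n * a⁻¹) • (MulAut.conj a • B) = B := by
          rw [cj_mul]
          have : n * a⁻¹ * a = n := by group
          rw [this, hnB]
        rw [← h2, hys]
        exact cj_mem (hSB' hy)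
      refine ⟨hyB, Subgroup.mem_centralizer_iff.mpr ?_⟩
      intro m hm
      obtain ⟨b, hb, hbq, hbm⟩ := hcmp m hm
      have hyr : ∃ k : ℕ, orderOf y = r ^ k := by
        obtain ⟨k, hk⟩ := isPGroup_elem hS hy
        refine ⟨k, ?_⟩
        rw [← hk, hys]
        exact orderOf_injective (MulAut.conj (n * a⁻¹)).toMonoidHom (MulAut.conj (n * a⁻¹)).injective s
      have h3 : y * b = b * y := hB.comm hr hq hrq hyB hb hyr hbq
      have h4 : y * (b * m) = b * m * y := by
        rw [← hbm, hys]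
        have h5 : s * m = m * s := (hcomm m hm s hy).symm
        calc (n * a⁻¹) * s * (n * a⁻¹)⁻¹ * ((n * a⁻¹) * m * (n * a⁻¹)⁻¹)
            = (n * a⁻¹) * (s * m) * (n * a⁻¹)⁻¹ := by group
          _ = (n * a⁻¹) * (m * s) * (n * a⁻¹)⁻¹ := by rw [h5]
          _ = (n * a⁻¹) * m * (n * a⁻¹)⁻¹ * ((n * a⁻¹) * s * (n * a⁻¹)⁻¹) := by group
      have h6 : b * (y * m) = b * (m * y) := by
        calc b * (y * m) = (b * y) * m := by group
          _ = (y * b) * m := by rw [h3]
          _ = y * (b * m) := by group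
          _ = b * m * y := h4
          _ = b * (m * y) := by group
      exact (mul_left_cancel h6).symm
    -- orders
    obtain ⟨k, hk⟩ := IsPGroup.iff_card.mp hS
    have h2 : r ^ k ∣ Nat.card W := by
      rw [← hk, ← card_cj (n * a⁻¹) S]
      exact Subgroup.card_dvd_of_le hSW
    have h3 : Nat.card W * W.relIndex F = Nat.card F := by
      rw [← Subgroup.relIndex_bot_left W, Subgroup.relIndex_mul_relIndex _ _ _ bot_le hWF, Subgroup.relIndex_bot_left]
    have h4 : r ^ k * S.relIndex F = Nat.card F := by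
      rw [← hk, ← Subgroup.relIndex_bot_left S, Subgroup.relIndex_mul_relIndex _ _ _ bot_le hSF,
        Subgroup.relIndex_bot_left]
    have h5 : r ^ k * r ∣ r ^ k * S.relIndex F := by
      rw [h4, ← h3]
      exact Nat.mul_dvd_mul h2 hd
    exact hSi (Nat.dvd_of_mul_dvd_mul_left (pow_pos hr.pos k) h5)
  · have := hB.nil
    exact nilpotent_of_le (inf_le_left : W ≤ B)

end Quot

end Cfsg.Agent.H165.NilHall
end

-- part: H165/NHallD
section
/-!
# P. Hall's theorem D5, end of the proof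

`exists_nz` : a solvable `π`-group normalizing `A` normalizes a nilpotent Hall `π`-subgroup of `A`, if there is one.
-/

set_option autoImplicit false
open Cfsg
open scoped Pointwise

namespace Cfsg.Agent.H165.NilHall

open Cfsg.Agent.H988.CPi

universe u

variable {π : Set ℕ} {X : Type u} [Group X]

theorem char_nz {V W : Subgroup X} (h : Nz V W) {N : Subgroup W} (hN : N.Characteristic) : Nz V (N.map W.subtype) := by
  intro v hv _ hx
  obtain ⟨x, hx, rfl⟩ := hx
  let φ : W ≃* W :=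
    { toFun := fun w => ⟨v * w * v⁻¹, h v hv w w.2⟩
      invFun := fun w => ⟨v⁻¹ * w * v, by
        have := h v⁻¹ (V.inv_mem hv) w w.2
        rwa [inv_inv] at this⟩
      left_inv := fun w => Subtype.ext (by change v⁻¹ * (v * w * v⁻¹) * v = w; group)
      right_inv := fun w => Subtype.ext (by change v * (v⁻¹ * w * v) * v⁻¹ = w; group)
      map_mul' := fun a b => Subtype.ext (by
        change v * (a * b : X) * v⁻¹ = (v * a * v⁻¹) * (v * b * v⁻¹); group) }
  have h1 : φ x ∈ N := by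
    have h2 := hN.fixed φ
    rw [← h2] at hx
    exact hx
  exact ⟨φ x, h1, rfl⟩

/-- The action of `V` on a subgroup it normalizes. -/
@[reducible] def actSub {V F : Subgroup X} (h : Nz V F) : MulDistribMulAction V F where
  smul v f := ⟨v * f * v⁻¹, h v v.2 f f.2⟩
  one_smul f := Subtype.ext (by change (1 : X) * f * 1⁻¹ = f; group)
  mul_smul v w f := Subtype.ext (by
    change ((v : X) * w) * f * ((v : X) * w)⁻¹ = (v : X) * ((w : X) * f * (w : X)⁻¹) * (v : X)⁻¹; group)
  smul_one v := Subtype.ext (by change (v : X) * 1 * (v : X)⁻¹ = 1; group)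
  smul_mul v f g := Subtype.ext (by
    change (v : X) * (f * g) * (v : X)⁻¹ = ((v : X) * f * (v : X)⁻¹) * ((v : X) * g * (v : X)⁻¹); group)

/-- The action on nilpotent Hall subgroups normalized by `M`. -/
@[reducible] def actHall {A M V : Subgroup X} (hA : Nz V A) (hM : ∀ v ∈ V, ∀ B : Subgroup X, NHall π B A → Nz M B →
    Nz M (MulAut.conj v • B)) : MulAction V {B : Subgroup X // NHall π B A ∧ Nz M B} where
  smul v B := ⟨MulAut.conj (v : X) • B.1, B.2.1.cj (hA.smul_eq v.2), hM v v.2 B.1 B.2.1 B.2.2⟩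
  one_smul B := Subtype.ext (cj_one B.1)
  mul_smul v w B := Subtype.ext (cj_mul (v : X) (w : X) B.1).symm

variable [Finite X]

/-- a `q`-group acting on a nontrivial `q`-group has nontrivial fixed points -/
theorem exists_fixed {q : ℕ} (hq : q.Prime) {P Q : Subgroup X} (hP : IsPGroup q P) (hQ : IsPGroup q Q) (h : Nz P Q)
    (hQ1 : Q ≠ ⊥) : ∃ x ∈ Q, x ≠ 1 ∧ ∀ m ∈ P, m * x = x * m := by
  haveI : Fact q.Prime := ⟨hq⟩
  letI := actSub h
  have h1 : q ∣ Nat.card Q := by
    obtain ⟨k, hk⟩ := IsPGroup.iff_card.mp hQ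
    rw [hk]
    refine dvd_pow_self q ?_
    rintro rfl
    rw [pow_zero] at hk
    exact hQ1 (Subgroup.eq_bot_of_card_eq Q hk)
  have h2 : (1 : Q) ∈ MulAction.fixedPoints P Q := fun m => smul_one m
  obtain ⟨x, hx, hx1⟩ := hP.exists_fixed_point_of_prime_dvd_card_of_fixed_point (α := Q) h1 h2
  refine ⟨x, x.2, fun h3 => hx1 (Subtype.ext h3.symm), fun m hm => ?_⟩
  have h4 : m * (x : X) * m⁻¹ = x := congrArg Subtype.val (hx ⟨m, hm⟩)
  calc m * (x : X) = m * x * m⁻¹ * m := by group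
    _ = x * m := by rw [h4]

theorem centralizer_nz {V A : Subgroup X} (h : Nz V A) : Nz V (Subgroup.centralizer (A : Set X)) := by
  intro v hv x hx
  rw [Subgroup.mem_centralizer_iff] at hx ⊢
  intro a ha
  have h1 : v⁻¹ * a * v ∈ A := by
    have := h v⁻¹ (V.inv_mem hv) a ha
    rwa [inv_inv] at this
  have h2 := hx _ h1
  calc a * (v * x * v⁻¹) = v * ((v⁻¹ * a * v) * x) * v⁻¹ := by group
    _ = v * (x * (v⁻¹ * a * v)) * v⁻¹ := by rw [h2]
    _ = v * x * v⁻¹ * a := by group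

/-- the section `M / C_V(A)` -/
theorem exists_section {A V : Subgroup X} (hVA : Nz V A) (hVs : Group.IsSolvable V)
    (hc : ¬ V ≤ Subgroup.centralizer (A : Set X)) :
    ∃ (q : ℕ) (M P : Subgroup X), q.Prime ∧ q ∣ Nat.card V ∧ M ≤ V ∧ Nz V M ∧ P ≤ M ∧ IsPGroup q P ∧
      ¬ P ≤ Subgroup.centralizer (A : Set X) ∧ M ≤ (V ⊓ Subgroup.centralizer (A : Set X)) ⊔ P := by
  have hCV := centralizer_nz hVA
  set C : Subgroup V := (Subgroup.centralizer (A : Set X)).subgroupOf V with hC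
  haveI : C.Normal := ⟨fun x hx g => hCV g g.2 x hx⟩
  have hne : C ≠ ⊤ := fun h => hc (Subgroup.subgroupOf_eq_top.mp h)
  haveI : Nontrivial (V ⧸ C) := by
    by_contra hn
    rw [not_nontrivial_iff_subsingleton] at hn
    exact hne (QuotientGroup.subsingleton_iff.mp hn)
  haveI : Group.IsSolvable (V ⧸ C) := Group.isSolvable_of_surjective (QuotientGroup.mk'_surjective C)
  obtain ⟨q, hq, K, hK, -, hKq, hK1⟩ := Lib.SolvableMinNormal.exists_characteristic_pgroup (G := V ⧸ C)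
  haveI : Fact q.Prime := ⟨hq⟩
  set f : V →* V ⧸ C := QuotientGroup.mk' C with hf
  have hfs : Function.Surjective f := QuotientGroup.mk'_surjective C
  have hker : f.ker = C := QuotientGroup.ker_mk' C
  haveI hKn : K.Normal := inferInstance
  have hMn : (K.comap f).Normal := inferInstance
  set M : Subgroup X := (K.comap f).map V.subtype with hM
  have hMV : M ≤ V := Subgroup.map_subtype_le _
  have hVM : Nz V M := by
    rintro v hv _ ⟨x, hx, rfl⟩
    exact ⟨(⟨v, hv⟩ * x * ⟨v, hv⟩⁻¹ :), hMn.conj_mem x hx ⟨v, hv⟩, rfl⟩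
  obtain ⟨P, hPM, -, hP, hPi⟩ := exists_rel_sylow hq (bot_le (a := M)) IsPGroup.of_bot
  set C₀ : Subgroup X := V ⊓ Subgroup.centralizer (A : Set X) with hC₀
  have hCM : C₀ ≤ M := by
    intro x hx
    refine ⟨⟨x, hx.1⟩, ?_, rfl⟩
    show f ⟨x, hx.1⟩ ∈ K
    have : f ⟨x, hx.1⟩ = 1 := by
      rw [← MonoidHom.mem_ker, hker]
      exact hx.2
    rw [this]
    exact one_mem _
  have hKc : C₀.relIndex M = Nat.card K := by
    have h1 : C₀ = C.map V.subtype := by
      rw [hC, Subgroup.subgroupOf_map_subtype, inf_comm]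
    have h2 : f.ker.relIndex (K.comap f) = Nat.card K := by
      rw [Subgroup.relIndex_ker, Subgroup.map_comap_eq_self_of_surjective hfs]
    rw [h1, hM, Subgroup.relIndex_map_map_of_injective _ _ V.subtype_injective, ← h2, hker]
  have hqV : q ∣ Nat.card V := by
    obtain ⟨k, hk⟩ := IsPGroup.iff_card.mp hKq
    have h1 : q ∣ Nat.card K := by
      rw [hk]
      refine dvd_pow_self q ?_
      rintro rfl
      rw [pow_zero] at hk
      exact hK1 (Subgroup.eq_bot_of_card_eq K hk)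
    exact (h1.trans (Subgroup.card_subgroup_dvd_card K)).trans (Subgroup.card_quotient_dvd_card C)
  have hMle : M ≤ C₀ ⊔ P := by
    rw [← Subgroup.relIndex_eq_one]
    obtain ⟨k, hk⟩ := IsPGroup.iff_card.mp hKq
    have h1 : (C₀ ⊔ P).relIndex M ∣ q ^ k := by
      rw [← hk, ← hKc]
      exact relIndex_dvd_of_le le_sup_left
    have h2 : (C₀ ⊔ P).relIndex M ∣ P.relIndex M := relIndex_dvd_of_le le_sup_right
    obtain ⟨j, -, hj⟩ := (Nat.dvd_prime_pow hq).mp h1
    rw [hj] at h2 ⊢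
    rcases Nat.eq_zero_or_pos j with h3 | h3
    · rw [h3, pow_zero]
    · exact absurd ((dvd_pow_self q h3.ne').trans h2) hPi
  refine ⟨q, M, P, hq, hqV, hMV, hVM, hPM, hP, ?_, hMle⟩
  intro hPc
  -- then `M ≤ C₀`, so `K = ⊥`
  have h1 : M ≤ C₀ := hMle.trans (sup_le le_rfl (le_inf (hPM.trans hMV) hPc))
  have h2 : C₀.relIndex M = 1 := Subgroup.relIndex_eq_one.mpr h1
  rw [hKc] at h2
  exact hK1 (Subgroup.eq_bot_of_card_eq K h2)

theorem nHall_card_eq {B A : Subgroup X} (h : NHall π B A) : Nat.card A = Nat.card B * B.relIndex A := by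
  rw [← Subgroup.relIndex_bot_left B, Subgroup.relIndex_mul_relIndex _ _ _ bot_le h.le, Subgroup.relIndex_bot_left]

omit [Finite X] in
theorem nz_of_centralizer {C B A : Subgroup X} (hC : C ≤ Subgroup.centralizer (A : Set X)) (hB : B ≤ A) : Nz C B := by
  intro c hc x hx
  have h1 := Subgroup.mem_centralizer_iff.mp (hC hc) x (hB hx)
  rw [← h1, mul_inv_cancel_right]
  exact hx

/-- the final step -/
theorem final_step {A V M P F : Subgroup X} {q : ℕ} (hq : q.Prime) (hqπ : q ∈ π) (hVA : Nz V A)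
    (hV : PiN π (Nat.card V)) (hVs : Group.IsSolvable V) (hdisj : A ⊓ V = ⊥) (hMV : M ≤ V) (hVM : Nz V M) (hPM : P ≤ M)
    (hP : IsPGroup q P) (hM : M ≤ (V ⊓ Subgroup.centralizer (A : Set X)) ⊔ P)
    (hF : F = A ⊓ Subgroup.centralizer (P : Set X)) (hVF : Nz V F) (hFπ : PiN' π (Nat.card F))
    (hA : ∃ B, NHall π B A) : ∃ B, NHall π B A ∧ Nz V B := by
  haveI : Fact q.Prime := ⟨hq⟩
  have hPA : Nz P A := hVA.mono (hPM.trans hMV)
  have hAP : A ⊓ P = ⊥ := le_bot_iff.mp (hdisj ▸ inf_le_inf_left A (hPM.trans hMV))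
  have hNzM : ∀ B : Subgroup X, B ≤ A → Nz P B → Nz M B := fun B hBA hPB =>
    ((nz_of_centralizer inf_le_right hBA).sup hPB).mono hM
  obtain ⟨B₁, hB₁, hPB₁⟩ := exists_nz_of_isPGroup hq hqπ hA hP hPA
  -- `q` does not divide `|A|`
  have hqA : ¬ q ∣ Nat.card A := by
    obtain ⟨Q, hQB, hQ, hQmax, hQi⟩ := exists_qpart hB₁.nil q hq
    have hQb : Q = ⊥ := by
      by_contra hQ1
      obtain ⟨x, hx, hx1, hxP⟩ := exists_fixed hq hP hQ (qpart_nz hPB₁ hQB hQ hQmax) hQ1
      have hxF : x ∈ F := by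
        rw [hF]
        exact ⟨hB₁.le (hQB hx), Subgroup.mem_centralizer_iff.mpr hxP⟩
      obtain ⟨k, hk⟩ := isPGroup_elem hQ hx
      have hk0 : k ≠ 0 := by
        rintro rfl
        rw [pow_zero, orderOf_eq_one_iff] at hk
        exact hx1 hk
      have h1 : q ∣ Nat.card F := ((dvd_pow_self q hk0).trans (by rw [← hk])).trans (by
        rw [← Nat.card_zpowers]
        exact Subgroup.card_dvd_of_le (Subgroup.zpowers_le.mpr hxF))
      exact hFπ q hq hqπ h1
    rw [hQb, Subgroup.relIndex_bot_left] at hQi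
    rw [nHall_card_eq hB₁]
    intro hd
    rcases hq.dvd_mul.mp hd with h1 | h1
    · exact hQi h1
    · exact hB₁.idx q hq hqπ h1
  -- Glauberman's lemma
  letI a1 : MulDistribMulAction V F := actSub hVF
  have hFA : F ≤ A := by rw [hF]; exact inf_le_left
  have hFc : ∀ f ∈ F, ∀ m ∈ M, m * f = f * m := by
    intro f hf m hm
    have h1 : M ≤ Subgroup.centralizer (F : Set X) := by
      refine hM.trans (sup_le ?_ ?_)
      · intro c hc
        rw [Subgroup.mem_centralizer_iff]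
        intro g hg
        exact Subgroup.mem_centralizer_iff.mp hc.2 g (hFA hg)
      · intro c hc
        rw [Subgroup.mem_centralizer_iff]
        intro g hg
        rw [hF] at hg
        exact (Subgroup.mem_centralizer_iff.mp hg.2 c hc).symm
    exact (Subgroup.mem_centralizer_iff.mp (h1 hm) f hf).symm
  letI a2 : MulAction F {B : Subgroup X // NHall π B A ∧ Nz M B} := actHall ((nz_self A).mono hFA) (by
    intro f hf B hB hMB m hm x hx
    rw [mem_cj] at hx ⊢
    have h1 := hMB m hm _ hx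
    have h2 : f⁻¹ * (m * x * m⁻¹) * f = m * (f⁻¹ * x * f) * m⁻¹ := by
      have h3 := hFc f hf m hm
      have h4 : f⁻¹ * m = m * f⁻¹ := by
        calc f⁻¹ * m = f⁻¹ * (m * f) * f⁻¹ := by group
          _ = f⁻¹ * (f * m) * f⁻¹ := by rw [h3]
          _ = m * f⁻¹ := by group
      have h5 : m⁻¹ * f = f * m⁻¹ := by
        calc m⁻¹ * f = m⁻¹ * (f * m) * m⁻¹ := by group
          _ = m⁻¹ * (m * f) * m⁻¹ := by rw [h3]
          _ = f * m⁻¹ := by group
      calc f⁻¹ * (m * x * m⁻¹) * f = (f⁻¹ * m) * x * (m⁻¹ * f) := by group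
        _ = (m * f⁻¹) * x * (f * m⁻¹) := by rw [h4, h5]
        _ = m * (f⁻¹ * x * f) * m⁻¹ := by group
    rw [h2]
    exact h1)
  letI a3 : MulAction V {B : Subgroup X // NHall π B A ∧ Nz M B} := actHall hVA (by
    intro v hv B hB hMB m hm x hx
    rw [mem_cj] at hx ⊢
    have h0 : v⁻¹ * m * v ∈ M := by
      have := hVM v⁻¹ (V.inv_mem hv) m hm
      rwa [inv_inv] at this
    have h1 := hMB _ h0 _ hx
    have h2 : v⁻¹ * m * v * (v⁻¹ * x * v) * (v⁻¹ * m * v)⁻¹ = v⁻¹ * (m * x * m⁻¹) * v := by group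
    rwa [h2] at h1)
  haveI : Nonempty {B : Subgroup X // NHall π B A ∧ Nz M B} := ⟨⟨B₁, hB₁, hNzM B₁ hB₁.le hPB₁⟩⟩
  have hcop : (Nat.card V).Coprime (Nat.card F) := hV.coprime hFπ
  obtain ⟨⟨ω, hω⟩, -⟩ := Cfsg.Agent.H532.CopAct.glauberman (A := V) (G := F)
    (Ω := {B : Subgroup X // NHall π B A ∧ Nz M B})
    (by
      intro v f B
      apply Subtype.ext
      show MulAut.conj (v : X) • (MulAut.conj (f : X) • B.1)
        = MulAut.conj ((v : X) * f * (v : X)⁻¹) • (MulAut.conj (v : X) • B.1)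
      rw [cj_mul, cj_mul]
      congr 2
      group)
    hcop (Or.inl hVs)
    (by
      intro B B'
      obtain ⟨a, ha, hBB'⟩ := B.2.1.conj B'.2.1
      obtain ⟨n, hn, hnB, hcmp⟩ := compare hq hqπ B.2.1 hP hPA hAP (B.2.2.mono hPM) ha
        (hBB' ▸ B'.2.2.mono hPM)
      have hc : a * n⁻¹ ∈ F := by
        rw [hF]
        refine ⟨A.mul_mem ha (A.inv_mem hn), Subgroup.mem_centralizer_iff.mpr ?_⟩
        intro m hm
        obtain ⟨b, hb, ⟨k, hk⟩, hbm⟩ := hcmp m hm
        have hb1 : b = 1 := by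
          rw [← orderOf_eq_one_iff, hk]
          rcases Nat.eq_zero_or_pos k with h1 | h1
          · rw [h1, pow_zero]
          · exfalso
            apply hqA
            refine (dvd_pow_self q h1.ne').trans ?_
            rw [← hk, ← Nat.card_zpowers]
            exact Subgroup.card_dvd_of_le (Subgroup.zpowers_le.mpr (B.2.1.le hb))
        rw [hb1, one_mul] at hbm
        calc m * (a * n⁻¹) = (a * n⁻¹) * ((n * a⁻¹) * m * (n * a⁻¹)⁻¹) := by group
          _ = a * n⁻¹ * m := by rw [hbm]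
      refine ⟨⟨a * n⁻¹, hc⟩, Subtype.ext ?_⟩
      show MulAut.conj (a * n⁻¹) • B.1 = B'.1
      have h1 : MulAut.conj n⁻¹ • B.1 = B.1 := (cj_inv_eq hnB.symm).symm
      rw [← cj_mul, h1, hBB'])
  refine ⟨ω.1, ω.2.1, nz_of_smul_eq fun v hv => ?_⟩
  exact congrArg Subtype.val (hω ⟨v, hv⟩)

/-- **P. Hall's theorem** (one step). -/
theorem goal_succ {n : ℕ} (hn : Goal.{u} π n) : Goal.{u} π (n + 1) := by
  intro X _ _ A V hlt hA hVA hV hVs
  have ih : Goal.{u} π (Nat.card A) := fun Y _ _ A' V' h => hn Y A' V' (lt_of_lt_of_le h (Nat.lt_succ_iff.mp hlt))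
  by_cases hex : ∃ (q : ℕ) (D : Subgroup X), q.Prime ∧ q ∈ π ∧ D ≤ A ∧ D ≠ ⊥ ∧ IsPGroup q D ∧ Nz V D
  · obtain ⟨q, D, hq, hqπ, hDA, hD, hDq, hVD⟩ := hex
    exact case_one ih hA hVA hV hVs hq hqπ hDA hD hDq hVD
  have hno : ∀ (q : ℕ) (D : Subgroup X), q.Prime → q ∈ π → D ≤ A → IsPGroup q D → Nz V D → D = ⊥ := by
    intro q D hq hqπ hDA hDq hVD
    by_contra hD
    exact hex ⟨q, D, hq, hqπ, hDA, hD, hDq, hVD⟩
  by_cases hc : V ≤ Subgroup.centralizer (A : Set X)
  · obtain ⟨B, hB⟩ := hA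
    exact ⟨B, hB, nz_of_centralizer hc hB.le⟩
  -- `A ⊓ V = ⊥`
  have hdisj : A ⊓ V = ⊥ := by
    by_contra hne
    haveI : Nontrivial (A ⊓ V : Subgroup X) := (Subgroup.nontrivial_iff_ne_bot _).mpr hne
    haveI : Group.IsSolvable (A ⊓ V : Subgroup X) := by
      have h1 : Group.IsSolvable ((A ⊓ V).subgroupOf V) := inferInstance
      exact Group.isSolvable_of_surjective (f := (Subgroup.subgroupOfEquivOfLe (inf_le_right : A ⊓ V ≤ V)).toMonoidHom)
        (Subgroup.subgroupOfEquivOfLe (inf_le_right : A ⊓ V ≤ V)).surjective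
    obtain ⟨q, hq, N, hN, -, hNq, hN1⟩ := Lib.SolvableMinNormal.exists_characteristic_pgroup
      (G := (A ⊓ V : Subgroup X))
    haveI : Fact q.Prime := ⟨hq⟩
    have hqπ : q ∈ π := by
      refine hV q hq ?_
      obtain ⟨k, hk⟩ := IsPGroup.iff_card.mp hNq
      have h1 : q ∣ Nat.card N := by
        rw [hk]
        refine dvd_pow_self q ?_
        rintro rfl
        rw [pow_zero] at hk
        exact hN1 (Subgroup.eq_bot_of_card_eq N hk)
      exact (h1.trans (Subgroup.card_subgroup_dvd_card N)).trans (Subgroup.card_dvd_of_le inf_le_right)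
    have h2 := hno q (N.map (A ⊓ V).subtype) hq hqπ ((Subgroup.map_subtype_le _).trans inf_le_left) (hNq.map _)
      (char_nz (hVA.inf (nz_self V)) hN)
    rw [Subgroup.map_eq_bot_iff_of_injective _ (A ⊓ V).subtype_injective] at h2
    exact hN1 h2
  obtain ⟨q, M, P, hq, hqV, hMV, hVM, hPM, hP, hPc, hM⟩ := exists_section hVA hVs hc
  have hqπ : q ∈ π := hV q hq hqV
  have hPA : Nz P A := hVA.mono (hPM.trans hMV)
  have hAP : A ⊓ P = ⊥ := le_bot_iff.mp (hdisj ▸ inf_le_inf_left A (hPM.trans hMV))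
  obtain hFH := hall_centralizer hq hqπ hA hP hPA hAP
    (fun V' D r hVA' hV' hVs' hr hrπ hDA hD hDr hVD => case_one ih hA hVA' hV' hVs' hr hrπ hDA hD hDr hVD)
  set F : Subgroup X := A ⊓ Subgroup.centralizer (P : Set X) with hF
  have hFA : F ≤ A := inf_le_left
  have hFne : F ≠ A := by
    intro h
    apply hPc
    intro m hm
    rw [Subgroup.mem_centralizer_iff]
    intro a ha
    have h1 : a ∈ F := h ▸ ha
    exact (Subgroup.mem_centralizer_iff.mp h1.2 m hm).symm
  have hFlt : Nat.card F < Nat.card A := by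
    refine lt_of_le_of_ne (Nat.le_of_dvd Nat.card_pos (Subgroup.card_dvd_of_le hFA)) (fun h => ?_)
    exact hFne (eq_of_le_of_card hFA h.symm)
  have hFM : ∀ f ∈ F, ∀ m ∈ M, m * f = f * m := by
    intro f hf m hm
    have h1 : M ≤ Subgroup.centralizer (F : Set X) := by
      refine hM.trans (sup_le ?_ ?_)
      · intro c hc
        rw [Subgroup.mem_centralizer_iff]
        intro g hg
        exact Subgroup.mem_centralizer_iff.mp hc.2 g (hFA hg)
      · intro c hc
        rw [Subgroup.mem_centralizer_iff]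
        intro g hg
        exact (Subgroup.mem_centralizer_iff.mp hg.2 c hc).symm
    exact (Subgroup.mem_centralizer_iff.mp (h1 hm) f hf).symm
  have hVF : Nz V F := by
    intro v hv f hf
    refine ⟨hVA v hv f hf.1, Subgroup.mem_centralizer_iff.mpr ?_⟩
    intro m hm
    have h0 : v⁻¹ * m * v ∈ M := by
      have := hVM v⁻¹ (V.inv_mem hv) m (hPM hm)
      rwa [inv_inv] at this
    have h1 := hFM f hf _ h0
    calc m * (v * f * v⁻¹) = v * (v⁻¹ * m * v * f) * v⁻¹ := by group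
      _ = v * (f * (v⁻¹ * m * v)) * v⁻¹ := by rw [h1]
      _ = v * f * v⁻¹ * m := by group
  obtain ⟨C, hC, hVC⟩ := ih X F V hFlt hFH hVF hV hVs
  have hFπ : PiN' π (Nat.card F) := by
    have h1 : Nat.card C = 1 := by
      refine eq_one_of_both hC.pi ?_
      intro p hp hpπ hd
      haveI : Fact p.Prime := ⟨hp⟩
      obtain ⟨Q, hQC, hQ, hQmax, hQi⟩ := exists_qpart hC.nil p hp
      have h2 := hno p Q hp hpπ ((hQC.trans hC.le).trans hFA) hQ (qpart_nz hVC hQC hQ hQmax)
      rw [h2, Subgroup.relIndex_bot_left] at hQi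
      exact hQi hd
    rw [nHall_card_eq hC, h1, one_mul]
    exact fun p hp hpπ => hC.idx p hp hpπ
  exact final_step hq hqπ hVA hV hVs hdisj hMV hVM hPM hP hM hF hVF hFπ hA

theorem goal (n : ℕ) : Goal.{u} π n := by
  induction n with
  | zero => intro X _ _ A V h; exact absurd h (Nat.not_lt_zero _)
  | succ n ih => exact goal_succ ih

/-- **P. Hall's theorem D5**: a solvable `π`-group normalizing `A` normalizes a nilpotent Hall `π`-subgroup of `A`. -/
theorem exists_nz {A V : Subgroup X} (hA : ∃ B, NHall π B A) (hVA : Nz V A) (hV : PiN π (Nat.card V))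
    (hVs : Group.IsSolvable V) : ∃ B, NHall π B A ∧ Nz V B :=
  goal (Nat.card A + 1) X A V (Nat.lt_succ_self _) hA hVA hV hVs

end Cfsg.Agent.H165.NilHall
end

-- part: H165/WielA
section
/-!
# Towards Wielandt's conjecture (S4335): groups with enough Hall subgroups
-/

set_option autoImplicit false
open Cfsg
open scoped Pointwise

namespace Cfsg.Agent.H165.Wiel

open Cfsg.Agent.H988.CPi Cfsg.Agent.H20.DPi Cfsg.Agent.H165.NilHall

universe u

/-- `HasD` inside a subgroup. -/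
theorem hasD_rel {G : Type u} [Group G] [Finite G] {π : Set ℕ} {C : Subgroup G} (h : HasD π C) {K U : Subgroup G}
    (hKC : K ≤ C) (hUC : U ≤ C) (hK : PiN π (Nat.card K)) (hKi : PiN' π (K.relIndex C)) (hU : PiN π (Nat.card U)) :
    ∃ c ∈ C, U ≤ MulAut.conj c • K := by
  obtain ⟨g, hg⟩ := h.2 (K.subgroupOf C) (U.subgroupOf C) ⟨by rw [card_subgroupOf hKC]; exact hK, hKi⟩
    (by rw [card_subgroupOf hUC]; exact hU)
  refine ⟨(g : G)⁻¹, C.inv_mem g.2, fun x hx => ?_⟩
  rw [mem_cj, inv_inv]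
  have h1 : g * ⟨x, hUC hx⟩ * g⁻¹ ∈ K.subgroupOf C := hg ⟨⟨x, hUC hx⟩, hx, rfl⟩
  exact h1

theorem hasD_of_subsingleton {G : Type u} [Group G] [Finite G] (π : Set ℕ) (h : Nat.card G = 1) : HasD π G := by
  have hb : ∀ U : Subgroup G, U = ⊥ := by
    intro U
    apply Subgroup.eq_bot_of_card_eq
    have := Subgroup.card_subgroup_dvd_card U
    rw [h] at this
    exact Nat.dvd_one.mp this
  refine ⟨⟨⊥, ?_, ?_⟩, ?_⟩
  · intro p hp hd
    rw [Subgroup.card_bot] at hd
    exact absurd (Nat.dvd_one.1 hd) hp.one_lt.ne'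
  · intro p hp _ hd
    rw [Subgroup.index_bot, h] at hd
    exact absurd (Nat.dvd_one.1 hd) hp.one_lt.ne'
  · intro K U _ _
    refine ⟨1, ?_⟩
    rw [hb (U.map _)]
    exact bot_le

/-- `X` is `r`-solvable for all `r ∈ τ`. -/
def TS (τ : Set ℕ) (X : Type u) [Group X] : Prop := ∀ r : ℕ, r.Prime → r ∈ τ → IsPSolvable r X

theorem TS.subgroup {τ : Set ℕ} {X : Type u} [Group X] (h : TS τ X) (C : Subgroup X) : TS τ C := fun r hr hτ => by
  haveI : Fact r.Prime := ⟨hr⟩
  exact PLocal.PSolvable.isPSolvable_subgroup (h r hr hτ) C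

theorem TS.quotient {τ : Set ℕ} {X : Type u} [Group X] (h : TS τ X) (N : Subgroup X) [N.Normal] : TS τ (X ⧸ N) :=
  fun r hr hτ => by
    haveI : Fact r.Prime := ⟨hr⟩
    exact PLocal.PSolvable.isPSolvable_quotient (h r hr hτ) N

theorem exists_min_normal (G : Type u) [Group G] [Finite G] (A₀ : Subgroup G) (h0 : A₀.Normal) (hne : A₀ ≠ ⊥) :
    ∃ A : Subgroup G, A.Normal ∧ A ≠ ⊥ ∧ A ≤ A₀ ∧ ∀ B : Subgroup G, B.Normal → B ≤ A → B ≠ ⊥ → B = A := by
  obtain ⟨A, hA1, hA2⟩ := Finite.exists_le_minimal (α := Subgroup G) (p := fun A => A.Normal ∧ A ≠ ⊥) (a := A₀)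
    ⟨h0, hne⟩
  refine ⟨A, hA2.1.1, hA2.1.2, hA1, fun B hB hBA hB1 => le_antisymm hBA (hA2.2 ⟨hB, hB1⟩ hBA)⟩

theorem pprime_card {X : Type u} [Group X] [Finite X] {N : Subgroup X} [hN : N.Normal]
    (hmin : ∀ B : Subgroup X, B.Normal → B ≤ N → B ≠ ⊥ → B = N) (hNb : N ≠ ⊥) {r : ℕ} (hr : r.Prime)
    (hs : IsPSolvable r N) : IsPGroup r N ∨ ¬ r ∣ Nat.card N := by
  haveI : Fact r.Prime := ⟨hr⟩
  haveI : Nontrivial N := (Subgroup.nontrivial_iff_ne_bot N).mpr hNb
  rcases PLocal.Constrained.pCore_or_pPrimeCore_ne_bot hs with h | h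
  · left
    haveI hc := Lib.Cores.pCore_characteristic (G := N) r
    have hn : ((pCore r N).map N.subtype).Normal := inferInstance
    have h1 := hmin _ hn (Subgroup.map_subtype_le _) (by
      rw [Ne, Subgroup.map_eq_bot_iff_of_injective _ N.subtype_injective]; exact h)
    rw [← h1]
    exact (Lib.Cores.pCore_isPGroup r).map _
  · right
    haveI hc := Lib.Cores.pPrimeCore_characteristic (G := N) r
    have hn : ((pPrimeCore r N).map N.subtype).Normal := inferInstance
    have h1 := hmin _ hn (Subgroup.map_subtype_le _) (by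
      rw [Ne, Subgroup.map_eq_bot_iff_of_injective _ N.subtype_injective]; exact h)
    have h2 := Lib.Cores.pPrimeCore_coprime (G := N) r
    rw [← Subgroup.card_map_of_injective N.subtype_injective, h1] at h2
    exact fun hd => (Nat.Prime.coprime_iff_not_dvd hr).mp h2.symm hd

theorem card_quotient_lt {X : Type u} [Group X] [Finite X] {N : Subgroup X} (hN : N ≠ ⊥) :
    Nat.card (X ⧸ N) < Nat.card X := by
  rw [Subgroup.card_eq_card_quotient_mul_card_subgroup N]
  have h1 : 1 < Nat.card N := (Subgroup.one_lt_card_iff_ne_bot N).2 hN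
  have h2 : 0 < Nat.card (X ⧸ N) := Nat.card_pos
  nlinarith

theorem hasD_of_ts_aux (n : ℕ) : ∀ (X : Type u) [Group X] [Finite X], Nat.card X = n → ∀ τ ρ : Set ℕ, TS τ X →
    ((∀ p : ℕ, p.Prime → p ∣ Nat.card X → p ∉ τ → p ∈ ρ) ∨ (∀ p : ℕ, p.Prime → p ∣ Nat.card X → p ∉ τ → p ∉ ρ)) →
    HasD ρ X := by
  induction n using Nat.strong_induction_on with
  | _ n ih =>
    intro X _ _ hn τ ρ hts hρ
    by_cases h1 : Nat.card X = 1
    · exact hasD_of_subsingleton ρ h1
    have htop : (⊤ : Subgroup X) ≠ ⊥ := by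
      intro h
      apply h1
      rw [← Subgroup.card_top (G := X), h, Subgroup.card_bot]
    obtain ⟨N, hN, hNb, -, hmin⟩ := exists_min_normal X ⊤ inferInstance htop
    refine hasD_step N ?_ (ih _ (hn ▸ card_quotient_lt hNb) (X ⧸ N) rfl τ ρ (hts.quotient N) ?_)
    · by_cases hex : ∃ r : ℕ, r.Prime ∧ r ∈ τ ∧ r ∣ Nat.card N
      · obtain ⟨r, hr, hrτ, hrN⟩ := hex
        haveI : Fact r.Prime := ⟨hr⟩
        rcases pprime_card hmin hNb hr (hts.subgroup N r hr hrτ) with h | h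
        · obtain ⟨k, hk⟩ := IsPGroup.iff_card.mp h
          have hq : ∀ q : ℕ, q.Prime → q ∣ Nat.card N → q = r := by
            intro q hq hd
            rw [hk] at hd
            exact (Nat.prime_dvd_prime_iff_eq hq hr).mp (hq.dvd_of_dvd_pow hd)
          by_cases hrρ : r ∈ ρ
          · exact Or.inl fun q hqp hd => (hq q hqp hd) ▸ hrρ
          · exact Or.inr fun q hqp hd => (hq q hqp hd) ▸ hrρ
        · exact absurd hrN h
      · push Not at hex
        have hd : Nat.card N ∣ Nat.card X := Subgroup.card_subgroup_dvd_card N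
        rcases hρ with hρ | hρ
        · exact Or.inl fun q hq hqd => hρ q hq (hqd.trans hd) fun hqτ => hex q hq hqτ hqd
        · exact Or.inr fun q hq hqd => hρ q hq (hqd.trans hd) fun hqτ => hex q hq hqτ hqd
    · have hd : Nat.card (X ⧸ N) ∣ Nat.card X := Subgroup.card_quotient_dvd_card N
      rcases hρ with hρ | hρ
      · exact Or.inl fun q hq hqd => hρ q hq (hqd.trans hd)
      · exact Or.inr fun q hq hqd => hρ q hq (hqd.trans hd)

theorem hasD_of_ts {X : Type u} [Group X] [Finite X] {τ ρ : Set ℕ} (h : TS τ X)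
    (hρ : (∀ p : ℕ, p.Prime → p ∣ Nat.card X → p ∉ τ → p ∈ ρ) ∨ (∀ p : ℕ, p.Prime → p ∣ Nat.card X → p ∉ τ → p ∉ ρ)) :
    HasD ρ X := hasD_of_ts_aux _ X rfl τ ρ h hρ

theorem hasD_of_solvable_aux (n : ℕ) : ∀ (X : Type u) [Group X] [Finite X], Nat.card X = n → Group.IsSolvable X →
    ∀ ρ : Set ℕ, HasD ρ X := by
  induction n using Nat.strong_induction_on with
  | _ n ih =>
    intro X _ _ hn hs ρ
    by_cases h1 : Nat.card X = 1
    · exact hasD_of_subsingleton ρ h1
    haveI : Nontrivial X := by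
      rw [← not_subsingleton_iff_nontrivial]
      intro h
      exact h1 (Nat.card_unique)
    obtain ⟨p, hp, N, hN, -, hNp, hNb⟩ := Lib.SolvableMinNormal.exists_characteristic_pgroup (G := X)
    haveI : Fact p.Prime := ⟨hp⟩
    refine hasD_step N ?_ (ih _ (hn ▸ card_quotient_lt hNb) (X ⧸ N) rfl
      (Group.isSolvable_of_surjective (QuotientGroup.mk'_surjective N)) ρ)
    obtain ⟨k, hk⟩ := IsPGroup.iff_card.mp hNp
    have hq : ∀ q : ℕ, q.Prime → q ∣ Nat.card N → q = p := by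
      intro q hq hd
      rw [hk] at hd
      exact (Nat.prime_dvd_prime_iff_eq hq hp).mp (hq.dvd_of_dvd_pow hd)
    by_cases hrρ : p ∈ ρ
    · exact Or.inl fun q hqp hd => (hq q hqp hd) ▸ hrρ
    · exact Or.inr fun q hqp hd => (hq q hqp hd) ▸ hrρ

theorem hasD_of_solvable {X : Type u} [Group X] [Finite X] (h : Group.IsSolvable X) (ρ : Set ℕ) : HasD ρ X :=
  hasD_of_solvable_aux _ X rfl h ρ

/-- a normal `π`- or `π'`-subgroup with solvable quotient -/
theorem hasD_of_normal {X : Type u} [Group X] [Finite X] {π : Set ℕ} (N : Subgroup X) [N.Normal]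
    (hN : PiN π (Nat.card N) ∨ PiN' π (Nat.card N)) (hs : Group.IsSolvable (X ⧸ N)) : HasD π X :=
  hasD_step N (hN.imp (fun h => h) (fun h q hq hd hπ => h q hq hπ hd)) (hasD_of_solvable hs π)

/-- a chain `S ≤ B` of normal subgroups: `S` a `π`-group, `B / S` a `π'`-group, solvable quotient -/
theorem hasD_of_chain {X : Type u} [Group X] [Finite X] {π : Set ℕ} (S B : Subgroup X) [S.Normal] [B.Normal] (hSB : S ≤ B)
    (h1 : PiN π (Nat.card S)) (h2 : PiN' π (S.relIndex B)) (hs : Group.IsSolvable (X ⧸ B)) : HasD π X := by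
  refine hasD_step S (Or.inl h1) ?_
  haveI : (B.map (QuotientGroup.mk' S)).Normal :=
    Subgroup.Normal.map inferInstance _ (QuotientGroup.mk'_surjective S)
  refine hasD_of_normal (B.map (QuotientGroup.mk' S)) (Or.inr ?_) ?_
  · rw [← Subgroup.relIndex_ker, QuotientGroup.ker_mk']
    exact h2
  · have h3 : B ≤ ((QuotientGroup.mk' (B.map (QuotientGroup.mk' S))).comp (QuotientGroup.mk' S)).ker := by
      intro x hx
      rw [MonoidHom.mem_ker, MonoidHom.comp_apply, ← MonoidHom.mem_ker, QuotientGroup.ker_mk']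
      exact ⟨x, hx, rfl⟩
    refine Group.isSolvable_of_surjective (f := QuotientGroup.lift B _ h3) ?_
    refine QuotientGroup.lift_surjective_of_surjective B _ ?_ h3
    exact (QuotientGroup.mk'_surjective _).comp (QuotientGroup.mk'_surjective S)

theorem relIndex_cj_self {G : Type u} [Group G] {A K : Subgroup G} {g : G} (hg : MulAut.conj g • A = A) :
    (MulAut.conj g • K).relIndex A = K.relIndex A := by
  conv_lhs => rw [← hg]
  exact Subgroup.relIndex_pointwise_smul _ _ _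

/-- Lemma E': a `π`-subgroup normalizing some Hall `π`-subgroup of `A` lies in a Hall `π`-subgroup of `G`. -/
theorem conj_of_nz_hall {G : Type u} [Group G] [Finite G] {π : Set ℕ} (A : Subgroup G) [hA : A.Normal]
    (hs : Group.IsSolvable (G ⧸ A)) {H K B : Subgroup G} (hH : IsPiHall π H) (hK : PiN π (Nat.card K)) (hBA : B ≤ A)
    (hB : PiN π (Nat.card B)) (hKB : Nz K B) (hconj : ∃ a : G, B = MulAut.conj a • (H ⊓ A)) :
    ∃ g : G, K ≤ MulAut.conj g • H := by
  obtain ⟨a, ha⟩ := hconj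
  set N : Subgroup G := Subgroup.normalizer (B : Set G) with hN
  have hKN : K ≤ N := hKB.le_normalizer
  have hBN : B ≤ N := (nz_self B).le_normalizer
  have hHN : MulAut.conj a • H ≤ N := by
    rw [hN, ← nz_iff, ha]
    intro v hv x hx
    rw [mem_cj] at hv hx ⊢
    have h1 : a⁻¹ * (v * x * v⁻¹) * a = (a⁻¹ * v * a) * (a⁻¹ * x * a) * (a⁻¹ * v * a)⁻¹ := by group
    rw [h1]
    exact ⟨H.mul_mem (H.mul_mem hv hx.1) (H.inv_mem hv), hA.conj_mem _ hx.2 _⟩
  haveI h1 : (B.subgroupOf N).Normal := (Subgroup.normal_subgroupOf_iff_le_normalizer hBN).mpr le_rfl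
  haveI h2 : (A.subgroupOf N).Normal := inferInstance
  have hD : HasD π N := by
    refine hasD_of_chain (B.subgroupOf N) (A.subgroupOf N) (fun x hx => hBA hx) ?_ ?_ ?_
    · rw [card_subgroupOf hBN]; exact hB
    · have h3 : PiN' π (B.relIndex A) := by
        have h4 : PiN' π ((H ⊓ A).relIndex A) := by
          rw [Subgroup.inf_relIndex_right]
          exact PiN'.of_dvd hH.2 ⟨_, (relIndex_mul_sup_index H A).symm⟩
        have h5 : MulAut.conj a • A = A := (nz_normal ⊤ A).smul_eq (Subgroup.mem_top a)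
        rw [ha, relIndex_cj_self h5]
        exact h4
      refine h3.of_dvd ?_
      have h6 : (B.subgroupOf N).relIndex (A.subgroupOf N) = B.relIndex (A ⊓ N) := by
        rw [← Subgroup.inf_subgroupOf_right A N, Subgroup.relIndex_subgroupOf inf_le_right]
      rw [h6]
      have h7 : B ≤ A ⊓ N := le_inf hBA hBN
      rw [← Subgroup.relIndex_mul_relIndex _ _ _ h7 (inf_le_left : A ⊓ N ≤ A)]
      exact dvd_mul_right _ _
    · have hle : A.subgroupOf N ≤ Subgroup.comap N.subtype A := fun x hx => hx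
      have h8 : Function.Injective (QuotientGroup.map (A.subgroupOf N) A N.subtype hle) := by
        rw [← MonoidHom.ker_eq_bot_iff, eq_bot_iff]
        intro x hx
        obtain ⟨y, rfl⟩ := QuotientGroup.mk_surjective x
        rw [MonoidHom.mem_ker] at hx
        change ((y : G) : G ⧸ A) = 1 at hx
        rw [QuotientGroup.eq_one_iff] at hx
        rw [Subgroup.mem_bot, QuotientGroup.eq_one_iff]
        exact hx
      exact Group.isSolvable_of_isSolvable_injective h8
  have hHa : IsPiHall π (MulAut.conj a • H) := isPiHall_smul hH a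
  obtain ⟨c, -, hc⟩ := hasD_rel hD hHN hKN hHa.1 (PiN'.of_dvd hHa.2 ⟨_, (Subgroup.relIndex_mul_index hHN).symm⟩) hK
  exact ⟨c * a, by rw [← cj_mul]; exact hc⟩

/-- Lemma T: both parts can be conjugated simultaneously if centralizers satisfy `D_τ`. -/
theorem conj_of_hasD {G : Type u} [Group G] [Finite G] {σ τ : Set ℕ} {Hs Ht : Subgroup G} (hHt : IsPiHall τ Ht)
    (hcomm : ∀ a ∈ Hs, ∀ b ∈ Ht, a * b = b * a)
    (hDs : ∀ K : Subgroup G, PiN σ (Nat.card K) → ∃ g : G, K ≤ MulAut.conj g • Hs)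
    (hC : ∀ C : Subgroup G, HasD τ C) {Ks Kt : Subgroup G} (hKs : PiN σ (Nat.card Ks)) (hKt : PiN τ (Nat.card Kt))
    (hK : ∀ a ∈ Ks, ∀ b ∈ Kt, a * b = b * a) : ∃ g : G, Ks ⊔ Kt ≤ MulAut.conj g • (Hs ⊔ Ht) := by
  obtain ⟨g, hg⟩ := hDs Ks hKs
  set Ks' := MulAut.conj g⁻¹ • Ks with hKs'
  set Kt' := MulAut.conj g⁻¹ • Kt with hKt'
  have hs' : Ks' ≤ Hs := by
    intro x hx
    rw [hKs', mem_cj, inv_inv] at hx
    have h1 := hg hx
    rw [mem_cj] at h1
    have h2 : g⁻¹ * (g * x * g⁻¹) * g = x := by group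
    rwa [h2] at h1
  set C : Subgroup G := Subgroup.centralizer (Ks' : Set G) with hCdef
  have hHtC : Ht ≤ C := by
    intro x hx
    rw [hCdef, Subgroup.mem_centralizer_iff]
    intro y hy
    exact hcomm y (hs' hy) x hx
  have hKtC : Kt' ≤ C := by
    intro x hx
    rw [hCdef, Subgroup.mem_centralizer_iff]
    intro y hy
    rw [hKs', SetLike.mem_coe, mem_cj, inv_inv] at hy
    rw [hKt', mem_cj, inv_inv] at hx
    have h1 := hK _ hy _ hx
    have h2 : g⁻¹ * (g * y * g⁻¹ * (g * x * g⁻¹)) * g = g⁻¹ * (g * x * g⁻¹ * (g * y * g⁻¹)) * g := by rw [h1]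
    have h3 : g⁻¹ * (g * y * g⁻¹ * (g * x * g⁻¹)) * g = y * x := by group
    have h4 : g⁻¹ * (g * x * g⁻¹ * (g * y * g⁻¹)) * g = x * y := by group
    rw [h3, h4] at h2
    exact h2
  obtain ⟨c, hc, hle⟩ := hasD_rel (hC C) hHtC hKtC hHt.1
    (PiN'.of_dvd hHt.2 ⟨_, (Subgroup.relIndex_mul_index hHtC).symm⟩) (by rw [hKt', card_cj]; exact hKt)
  refine ⟨g * c, sup_le ?_ ?_⟩
  · intro x hx
    rw [mem_cj]
    apply Subgroup.mem_sup_left
    have h1 : g⁻¹ * x * g ∈ Ks' := by
      rw [hKs', mem_cj, inv_inv]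
      have : g * (g⁻¹ * x * g) * g⁻¹ = x := by group
      rwa [this]
    have h2 : (g * c)⁻¹ * x * (g * c) = g⁻¹ * x * g := by
      have h3 := (Subgroup.mem_centralizer_iff.mp hc _ h1)
      calc (g * c)⁻¹ * x * (g * c) = c⁻¹ * ((g⁻¹ * x * g) * c) := by group
        _ = c⁻¹ * (c * (g⁻¹ * x * g)) := by rw [h3]
        _ = g⁻¹ * x * g := by group
    rw [h2]
    exact hs' h1
  · intro x hx
    rw [mem_cj]
    apply Subgroup.mem_sup_right
    have h1 : g⁻¹ * x * g ∈ Kt' := by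
      rw [hKt', mem_cj, inv_inv]
      have : g * (g⁻¹ * x * g) * g⁻¹ = x := by group
      rwa [this]
    have h2 := hle h1
    rw [mem_cj] at h2
    have h3 : (g * c)⁻¹ * x * (g * c) = c⁻¹ * (g⁻¹ * x * g) * c := by group
    rw [h3]
    exact h2

end Cfsg.Agent.H165.Wiel
end
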